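import Cfsg.Agent.H323.OI.Pieces
import Cfsg.Agent.H65.CN.Lin
import Cfsg.Agent.LieClassical.OrthFourCommon

/-!
# Coordinates for the eigenspaces of an orthogonal involution (helper112, for S3325)
-/

set_option autoImplicit false
set_option linter.unusedSectionVars false

namespace Cfsg.Agent.H112.OI

open Cfsg Subgroup Matrix QuadraticMap
open Cfsg.Agent.H183 Cfsg.Agent.H323.OI
open Cfsg.Agent.LieClassical.OrthCore
open Cfsg.Agent.H65.CN (eg mem_eg isCompl_eg)

section Transport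

variable {F : Type} [Field F] {ι κ : Type} [Fintype ι] [DecidableEq ι] [Fintype κ] [DecidableEq κ]

/-- transport of matrices along a linear equivalence -/
noncomputable def trE (L : (κ → F) ≃ₗ[F] (ι → F)) : GL κ F ≃* GL ι F :=
  (LieClassical.OrthFourCommon.glEquiv L).trans (LieClassical.OrthFinite.glEquiv ι F).symm

theorem trE_mulVec (L : (κ → F) ≃ₗ[F] (ι → F)) (g : GL κ F) (v : κ → F) :
    (trE L g : Matrix ι ι F) *ᵥ (L v) = L ((g : Matrix κ κ F) *ᵥ v) := by
  rw [← LieClassical.OrthFinite.glEquiv_apply]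
  unfold trE
  rw [MulEquiv.trans_apply, MulEquiv.apply_symm_apply, LieClassical.OrthFourCommon.glEquiv_apply,
    LinearEquiv.symm_apply_apply]

variable {Q : (ι → F) → F} {q : (κ → F) → F} {L : (κ → F) ≃ₗ[F] (ι → F)}

theorem map_trE (h : ∀ v, Q (L v) = q v) : (isometryGroup F q).map (trE L).toMonoidHom = isometryGroup F Q := by
  ext g
  constructor
  · rintro ⟨g, hg, rfl⟩
    rw [Cfsg.Agent.ClassicalGeometry.Reflection.mem_isometryGroup_iff]
    intro v
    obtain ⟨w, rfl⟩ := L.surjective v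
    change Q ((trE L g : Matrix ι ι F) *ᵥ (L w)) = _
    rw [trE_mulVec, h, h]
    exact (Cfsg.Agent.ClassicalGeometry.Reflection.mem_isometryGroup_iff _ _).1 hg w
  · intro hg
    refine ⟨(trE L).symm g, ?_, (trE L).apply_symm_apply g⟩
    refine (Cfsg.Agent.ClassicalGeometry.Reflection.mem_isometryGroup_iff _ _).2 fun v => ?_
    rw [← h, ← h, ← trE_mulVec, MulEquiv.apply_symm_apply]
    exact (Cfsg.Agent.ClassicalGeometry.Reflection.mem_isometryGroup_iff _ _).1 hg (L v)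

/-- transport of isometry groups -/
noncomputable def tr (h : ∀ v, Q (L v) = q v) : ↥(isometryGroup F q) ≃* ↥(isometryGroup F Q) :=
  ((trE L).subgroupMap (isometryGroup F q)).trans (MulEquiv.subgroupCongr (map_trE h))

theorem tr_mulVec (h : ∀ v, Q (L v) = q v) (g : ↥(isometryGroup F q)) (v : κ → F) :
    mx (tr h g) *ᵥ (L v) = L (mx g *ᵥ v) := trE_mulVec L g v

theorem tr_rel (h : ∀ v, Q (L v) = q v) (g : ↥(isometryGroup F q)) : Rel L.toAddEquiv g (tr h g) :=
  tr_mulVec h g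

end Transport

section Coord

variable {F : Type} [Field F] {ι : Type} [Fintype ι] [DecidableEq ι]

theorem iso_ext {Q : (ι → F) → F} {g h : ↥(isometryGroup F Q)} (H : ∀ v, mx g *ᵥ v = mx h *ᵥ v) : g = h :=
  Cfsg.Agent.ClassicalGeometry.Reflection.isometryGroup_ext Q g h H

/-- **Coordinates.** -/
theorem coords (h2 : (2 : F) ≠ 0) {Q : QuadraticForm F (ι → F)} (hQ : Nondeg Q) {T : ↥(isometryGroup F ⇑Q)}
    (hT : T * T = 1) {e : F} (he : e = 1 ∨ e = -1) :
    ∃ (k l : ℕ) (Q₁ : QuadraticForm F (Fin k → F)) (Q₂ : QuadraticForm F (Fin l → F))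
      (L : (Fin k ⊕ Fin l → F) ≃ₗ[F] (ι → F)), Nondeg Q₁ ∧ Nondeg Q₂ ∧ (∀ v, Q (L v) = sumFun ⇑Q₁ ⇑Q₂ v) ∧
      (∀ v : Fin k → F, mx T *ᵥ L (Sum.elim v 0) = e • L (Sum.elim v 0)) ∧
      (∀ v : Fin l → F, mx T *ᵥ L (Sum.elim 0 v) = -e • L (Sum.elim 0 v)) := by
  have he0 : e ≠ 0 := by
    rcases he with rfl | rfl
    · exact one_ne_zero
    · exact neg_ne_zero.2 one_ne_zero
  have hee : e * e = 1 := by rcases he with rfl | rfl <;> ring
  let t : (ι → F) ≃ₗ[F] (ι → F) := LieClassical.OrthFinite.glEquiv ι F (T : GL ι F)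
  have ht : ∀ v, t v = mx T *ᵥ v := fun v => rfl
  have htt : ∀ v, t (t v) = v := by
    intro v
    rw [ht, ht, mulVec_mulVec]
    have h1 : mx T * mx T = 1 := by
      have := congrArg (fun g : ↥(isometryGroup F ⇑Q) => mx g) hT
      exact this
    rw [h1, one_mulVec]
  have htQ : ∀ v, Q (t v) = Q v := fun v =>
    (Cfsg.Agent.ClassicalGeometry.Reflection.mem_isometryGroup_iff _ _).1 T.2 v
  have hpol : ∀ v w, polar Q (t v) (t w) = polar Q v w := by
    intro v w
    unfold polar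
    rw [← map_add, htQ, htQ, htQ]
  have hc : IsCompl (eg t e) (eg t (-e)) := isCompl_eg h2 he0 fun v => by rw [htt, hee, one_smul]
  have horth : ∀ v ∈ eg t e, ∀ w ∈ eg t (-e), polar Q v w = 0 := by
    intro v hv w hw
    have h1 := hpol v w
    rw [mem_eg.1 hv, mem_eg.1 hw, neg_smul, polar_neg_right, polar_smul_left, polar_smul_right, smul_smul, hee,
      one_smul] at h1
    have h3 : (2 : F) * polar Q v w = 0 := by linear_combination -h1
    exact (mul_eq_zero.1 h3).resolve_left h2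
  let k := Module.finrank F (eg t e)
  let l := Module.finrank F (eg t (-e))
  let b₁ : Module.Basis (Fin k) F (eg t e) := Module.finBasis F (eg t e)
  let b₂ : Module.Basis (Fin l) F (eg t (-e)) := Module.finBasis F (eg t (-e))
  let i₁ : (Fin k → F) →ₗ[F] (ι → F) := (eg t e).subtype.comp b₁.equivFun.symm.toLinearMap
  let i₂ : (Fin l → F) →ₗ[F] (ι → F) := (eg t (-e)).subtype.comp b₂.equivFun.symm.toLinearMap
  have hi₁ : ∀ v, i₁ v ∈ eg t e := fun v => (b₁.equivFun.symm v).2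
  have hi₂ : ∀ v, i₂ v ∈ eg t (-e) := fun v => (b₂.equivFun.symm v).2
  let L : (Fin k ⊕ Fin l → F) ≃ₗ[F] (ι → F) :=
    (LinearEquiv.sumArrowLequivProdArrow (Fin k) (Fin l) F F).trans
      ((b₁.equivFun.symm.prodCongr b₂.equivFun.symm).trans (Submodule.prodEquivOfIsCompl _ _ hc))
  have hL : ∀ v, L v = i₁ (v ∘ Sum.inl) + i₂ (v ∘ Sum.inr) := by
    intro v
    change (Submodule.prodEquivOfIsCompl _ _ hc) (b₁.equivFun.symm (v ∘ Sum.inl), b₂.equivFun.symm (v ∘ Sum.inr)) = _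
    exact Submodule.coe_prodEquivOfIsCompl' _ _ _ _
  have hQL : ∀ v, Q (L v) = Q (i₁ (v ∘ Sum.inl)) + Q (i₂ (v ∘ Sum.inr)) := by
    intro v
    rw [hL]
    have h1 := horth _ (hi₁ (v ∘ Sum.inl)) _ (hi₂ (v ∘ Sum.inr))
    unfold polar at h1
    linear_combination h1
  have hnd₁ : Nondeg (Q.comp i₁) := by
    intro v hv
    have h1 : i₁ v = 0 := by
      apply hQ
      intro w
      obtain ⟨u, rfl⟩ := L.surjective w
      rw [hL, polar_add_right, horth _ (hi₁ v) _ (hi₂ _), add_zero]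
      have h3 := hv (u ∘ Sum.inl)
      unfold polar at h3 ⊢
      rw [QuadraticMap.comp_apply, QuadraticMap.comp_apply, QuadraticMap.comp_apply, map_add] at h3
      exact h3
    have h3 : b₁.equivFun.symm v = 0 := Subtype.ext h1
    rwa [LinearEquiv.map_eq_zero_iff] at h3
  have hnd₂ : Nondeg (Q.comp i₂) := by
    intro v hv
    have h1 : i₂ v = 0 := by
      apply hQ
      intro w
      obtain ⟨u, rfl⟩ := L.surjective w
      rw [hL, polar_add_right, polar_comm Q (i₂ v), horth _ (hi₁ _) _ (hi₂ v), zero_add]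
      have h3 := hv (u ∘ Sum.inr)
      unfold polar at h3 ⊢
      rw [QuadraticMap.comp_apply, QuadraticMap.comp_apply, QuadraticMap.comp_apply, map_add] at h3
      exact h3
    have h3 : b₂.equivFun.symm v = 0 := Subtype.ext h1
    rwa [LinearEquiv.map_eq_zero_iff] at h3
  refine ⟨k, l, Q.comp i₁, Q.comp i₂, L, hnd₁, hnd₂, hQL, fun v => ?_, fun v => ?_⟩
  · rw [hL, Sum.elim_comp_inl, Sum.elim_comp_inr, map_zero, add_zero, ← ht]
    exact mem_eg.1 (hi₁ v)
  · rw [hL, Sum.elim_comp_inl, Sum.elim_comp_inr, map_zero, zero_add, ← ht]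
    exact mem_eg.1 (hi₂ v)

variable {k l : ℕ} {Q₁ : QuadraticForm F (Fin k → F)} {Q₂ : QuadraticForm F (Fin l → F)}

theorem elim_add (v : Fin k ⊕ Fin l → F) :
    v = Sum.elim (v ∘ Sum.inl) (0 : Fin l → F) + Sum.elim (0 : Fin k → F) (v ∘ Sum.inr) := by
  funext i
  rcases i with i | i <;> simp

theorem elim_smul (c : F) (v : Fin k → F) (w : Fin l → F) : Sum.elim (c • v) (c • w) = c • Sum.elim v w := by
  funext i
  rcases i with i | i <;> simp

theorem elim_smul_right (c : F) (w : Fin l → F) :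
    Sum.elim (0 : Fin k → F) (c • w) = c • Sum.elim (0 : Fin k → F) w := by
  rw [← elim_smul, smul_zero]

theorem elim_smul_left (c : F) (v : Fin k → F) :
    Sum.elim (c • v) (0 : Fin l → F) = c • Sum.elim v (0 : Fin l → F) := by
  rw [← elim_smul, smul_zero]

theorem single_right (j : Fin l) :
    Sum.elim (0 : Fin k → F) (Pi.single j 1) = (Pi.single (Sum.inr j) 1 : Fin k ⊕ Fin l → F) := by
  funext i
  rcases i with i | i
  · simp
  · by_cases hij : i = j
    · subst hij; simp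
    · simp [hij]

theorem single_left (j : Fin k) :
    Sum.elim (Pi.single j 1) (0 : Fin l → F) = (Pi.single (Sum.inl j) 1 : Fin k ⊕ Fin l → F) := by
  funext i
  rcases i with i | i
  · by_cases hij : i = j
    · subst hij; simp
    · simp [hij]
  · simp

theorem blk_mulVec (g : ↥(isometryGroup F ⇑Q₁) × ↥(isometryGroup F ⇑Q₂)) (v : Fin k ⊕ Fin l → F) :
    mx (blk ⇑Q₁ ⇑Q₂ g) *ᵥ v = Sum.elim (mx g.1 *ᵥ (v ∘ Sum.inl)) (mx g.2 *ᵥ (v ∘ Sum.inr)) := by
  change Matrix.fromBlocks _ 0 0 _ *ᵥ v = _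
  exact elim_eq_of_comp (fromBlocks_mulVec_inl _ _ _) (fromBlocks_mulVec_inr _ _ _)

theorem blk_injective : Function.Injective (blk ⇑Q₁ ⇑Q₂) := by
  intro g h hgh
  have h1 : Matrix.fromBlocks (mx g.1) 0 0 (mx g.2) = Matrix.fromBlocks (mx h.1) 0 0 (mx h.2) :=
    congrArg (fun x : ↥(isometryGroup F (sumFun ⇑Q₁ ⇑Q₂)) => mx x) hgh
  rw [Matrix.fromBlocks_inj] at h1
  apply Prod.ext
  · exact Subtype.ext (Units.ext h1.1)
  · exact Subtype.ext (Units.ext h1.2.2.2)

/-- **The centralizer of the involution.** -/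
theorem centralizer_eq (h2 : (2 : F) ≠ 0) {Q : QuadraticForm F (ι → F)} {T : ↥(isometryGroup F ⇑Q)} {e : F}
    (he : e = 1 ∨ e = -1) {L : (Fin k ⊕ Fin l → F) ≃ₗ[F] (ι → F)} (hQ : ∀ v, Q (L v) = sumFun ⇑Q₁ ⇑Q₂ v)
    (h₁ : ∀ v : Fin k → F, mx T *ᵥ L (Sum.elim v 0) = e • L (Sum.elim v 0))
    (h₂ : ∀ v : Fin l → F, mx T *ᵥ L (Sum.elim 0 v) = -e • L (Sum.elim 0 v)) :
    ((tr hQ).toMonoidHom.comp (blk ⇑Q₁ ⇑Q₂)).range = centralizer {T} := by
  have he0 : e ≠ 0 := by
    rcases he with rfl | rfl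
    · exact one_ne_zero
    · exact neg_ne_zero.2 one_ne_zero
  have hTL : ∀ v, mx T *ᵥ L v = L (Sum.elim (e • (v ∘ Sum.inl)) (-e • (v ∘ Sum.inr))) := by
    intro v
    conv_lhs => rw [elim_add v, map_add, mulVec_add, h₁, h₂, ← map_smul, ← map_smul, ← map_add]
    congr 1
    funext i
    rcases i with i | i <;> simp
  ext g
  rw [mem_centralizer_singleton_iff]
  constructor
  · rintro ⟨⟨a, b⟩, rfl⟩
    change tr hQ (blk ⇑Q₁ ⇑Q₂ (a, b)) * T = T * tr hQ (blk ⇑Q₁ ⇑Q₂ (a, b))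
    apply iso_ext
    intro w
    obtain ⟨v, rfl⟩ := L.surjective w
    change (mx (tr hQ (blk ⇑Q₁ ⇑Q₂ (a, b))) * mx T) *ᵥ L v = (mx T * mx (tr hQ (blk ⇑Q₁ ⇑Q₂ (a, b)))) *ᵥ L v
    rw [← mulVec_mulVec, ← mulVec_mulVec, hTL, tr_mulVec, tr_mulVec, hTL, blk_mulVec, blk_mulVec]
    simp only [Sum.elim_comp_inl, Sum.elim_comp_inr, mulVec_smul]
  · intro hg
    -- the action in the coordinates
    have key : ∀ g : ↥(isometryGroup F ⇑Q), g * T = T * g → ∃ (A : Matrix (Fin k) (Fin k) F)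
        (D : Matrix (Fin l) (Fin l) F), mx ((tr hQ).symm g) = Matrix.fromBlocks A 0 0 D := by
      intro g hg
      set h := (tr hQ).symm g with hh
      have hgh : g = tr hQ h := by rw [hh, MulEquiv.apply_symm_apply]
      have hcomm : ∀ v, mx h *ᵥ Sum.elim (e • (v ∘ Sum.inl)) (-e • (v ∘ Sum.inr)) =
          Sum.elim (e • ((mx h *ᵥ v) ∘ Sum.inl)) (-e • ((mx h *ᵥ v) ∘ Sum.inr)) := by
        intro v
        apply L.injective
        rw [← tr_mulVec hQ, ← hTL, ← hTL, ← tr_mulVec hQ, ← hgh, mulVec_mulVec, mulVec_mulVec]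
        have h3 := congrArg (fun x : ↥(isometryGroup F ⇑Q) => mx x *ᵥ L v) hg
        exact h3
      have hB : (mx h).toBlocks₁₂ = 0 := by
        ext i j
        have h3 := congrFun (hcomm (Sum.elim (0 : Fin k → F) (Pi.single j 1))) (Sum.inl i)
        rw [Sum.elim_comp_inl, Sum.elim_comp_inr, smul_zero, Sum.elim_inl, Pi.smul_apply, Function.comp_apply,
          elim_smul_right, mulVec_smul, Pi.smul_apply, single_right, mulVec_single_one] at h3
        change -e • mx h (Sum.inl i) (Sum.inr j) = e • mx h (Sum.inl i) (Sum.inr j) at h3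
        change mx h (Sum.inl i) (Sum.inr j) = 0
        have h7 : (2 * e) * mx h (Sum.inl i) (Sum.inr j) = 0 := by
          simp only [smul_eq_mul] at h3
          linear_combination -h3
        exact (mul_eq_zero.1 h7).resolve_left (mul_ne_zero h2 he0)
      have hC : (mx h).toBlocks₂₁ = 0 := by
        ext i j
        have h3 := congrFun (hcomm (Sum.elim (Pi.single j 1) (0 : Fin l → F))) (Sum.inr i)
        rw [Sum.elim_comp_inl, Sum.elim_comp_inr, smul_zero, Sum.elim_inr, Pi.smul_apply, Function.comp_apply,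
          elim_smul_left, mulVec_smul, Pi.smul_apply, single_left, mulVec_single_one] at h3
        change e • mx h (Sum.inr i) (Sum.inl j) = -e • mx h (Sum.inr i) (Sum.inl j) at h3
        change mx h (Sum.inr i) (Sum.inl j) = 0
        have h7 : (2 * e) * mx h (Sum.inr i) (Sum.inl j) = 0 := by
          simp only [smul_eq_mul] at h3
          linear_combination h3
        exact (mul_eq_zero.1 h7).resolve_left (mul_ne_zero h2 he0)
      refine ⟨(mx h).toBlocks₁₁, (mx h).toBlocks₂₂, ?_⟩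
      conv_lhs => rw [← Matrix.fromBlocks_toBlocks (mx h), hB, hC]
    obtain ⟨A, D, hAD⟩ := key g hg
    obtain ⟨A', D', hAD'⟩ := key g⁻¹ (by
      rw [inv_mul_eq_iff_eq_mul, ← mul_assoc, hg, mul_inv_cancel_right])
    set h := (tr hQ).symm g with hh
    have hinv : (tr hQ).symm g⁻¹ = h⁻¹ := by rw [hh, map_inv]
    rw [hinv] at hAD'
    have m1 : mx h * mx h⁻¹ = 1 := by
      have := congrArg (fun x : ↥(isometryGroup F (sumFun ⇑Q₁ ⇑Q₂)) => mx x) (mul_inv_cancel h)
      exact this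
    have m2 : mx h⁻¹ * mx h = 1 := by
      have := congrArg (fun x : ↥(isometryGroup F (sumFun ⇑Q₁ ⇑Q₂)) => mx x) (inv_mul_cancel h)
      exact this
    rw [hAD, hAD', Matrix.fromBlocks_multiply, ← Matrix.fromBlocks_one, Matrix.fromBlocks_inj] at m1 m2
    simp only [Matrix.zero_mul, Matrix.mul_zero, add_zero, zero_add] at m1 m2
    have hiso := (Cfsg.Agent.ClassicalGeometry.Reflection.mem_isometryGroup_iff _ _).1 h.2
    let a : GL (Fin k) F := ⟨A, A', m1.1, m2.1⟩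
    let b : GL (Fin l) F := ⟨D, D', m1.2.2.2, m2.2.2.2⟩
    have ha : a ∈ isometryGroup F ⇑Q₁ := by
      refine (Cfsg.Agent.ClassicalGeometry.Reflection.mem_isometryGroup_iff _ _).2 fun v => ?_
      have h3 := hiso (Sum.elim v 0)
      change sumFun ⇑Q₁ ⇑Q₂ (mx h *ᵥ Sum.elim v 0) = _ at h3
      rw [hAD] at h3
      change Q₁ ((Matrix.fromBlocks A 0 0 D *ᵥ Sum.elim v 0) ∘ Sum.inl) +
        Q₂ ((Matrix.fromBlocks A 0 0 D *ᵥ Sum.elim v 0) ∘ Sum.inr) = Q₁ (Sum.elim v 0 ∘ Sum.inl) +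
        Q₂ (Sum.elim v 0 ∘ Sum.inr) at h3
      rw [fromBlocks_mulVec_inl, fromBlocks_mulVec_inr, Sum.elim_comp_inl, Sum.elim_comp_inr, mulVec_zero,
        QuadraticMap.map_zero, add_zero, add_zero] at h3
      exact h3
    have hb : b ∈ isometryGroup F ⇑Q₂ := by
      refine (Cfsg.Agent.ClassicalGeometry.Reflection.mem_isometryGroup_iff _ _).2 fun v => ?_
      have h3 := hiso (Sum.elim 0 v)
      change sumFun ⇑Q₁ ⇑Q₂ (mx h *ᵥ Sum.elim 0 v) = _ at h3
      rw [hAD] at h3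
      change Q₁ ((Matrix.fromBlocks A 0 0 D *ᵥ Sum.elim 0 v) ∘ Sum.inl) +
        Q₂ ((Matrix.fromBlocks A 0 0 D *ᵥ Sum.elim 0 v) ∘ Sum.inr) = Q₁ (Sum.elim 0 v ∘ Sum.inl) +
        Q₂ (Sum.elim 0 v ∘ Sum.inr) at h3
      rw [fromBlocks_mulVec_inl, fromBlocks_mulVec_inr, Sum.elim_comp_inl, Sum.elim_comp_inr, mulVec_zero,
        QuadraticMap.map_zero, zero_add, zero_add] at h3
      exact h3
    refine ⟨(⟨a, ha⟩, ⟨b, hb⟩), ?_⟩
    change tr hQ (blk ⇑Q₁ ⇑Q₂ (⟨a, ha⟩, ⟨b, hb⟩)) = g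
    rw [← MulEquiv.eq_symm_apply]
    apply Subtype.ext
    apply Units.ext
    exact hAD.symm

end Coord

end Cfsg.Agent.H112.OI
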