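import Cfsg.Agent.H340.OddForm
import Cfsg.Agent.H340.OddLie

/-!
# Composition factors of linear, unitary and small orthogonal groups (helper112, for S3325)

`LB r P` : the simple groups `PSL`, `PSU`, `PSp` of characteristic `r` have the property `P`.
* `cfl_gl`, `cfl_gu`;
* `cfl_O` : orthogonal groups of dimension at most six;
* `cfl_CT` : the isometries of a symmetric form which commute with an isometry `T`, `T² = -1`.

Variants of `H340.RingInv`, `H340.SemiUnit` (helper340).
-/

set_option autoImplicit false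
set_option linter.unusedSectionVars false

namespace Cfsg.Agent.H112.OI

open Subgroup Cfsg Cfsg.Agent.BpLin QuadraticMap Cfsg.Agent.H340
open Cfsg.Agent.LieClassical.OrthCore Cfsg.Agent.LieClassical.OrthTrans Cfsg.Agent.LieClassical.OrthSimple
open scoped MatrixGroups Matrix commutatorElement

universe u

/-- The simple groups `PSL`, `PSU`, `PSp` in characteristic `r` satisfy `P`. -/
structure LB (r : ℕ) (P : ∀ (S : Type u) [Group S], Prop) : Prop where
  psl : ∀ (F : Type) [Field F] [Finite F] [CharP F r] (n : ℕ),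
    IsSimpleGroup (Matrix.ProjectiveSpecialLinearGroup (Fin n) F) → ∀ (S : Type u) [Group S],
    Nonempty (S ≃* Matrix.ProjectiveSpecialLinearGroup (Fin n) F) → P S
  psu : ∀ (F : Type) [Field F] [Fintype F] [CharP F r] (n q : ℕ), Fintype.card F = q ^ 2 → 3 ≤ n →
    IsSimpleGroup (PSU n F q) → ∀ (S : Type u) [Group S], Nonempty (S ≃* PSU n F q) → P S
  psp : ∀ (F : Type) [Field F] [Finite F] [CharP F r] (m : ℕ), 2 ≤ m → IsSimpleGroup (PSp m F) →
    ∀ (S : Type u) [Group S], Nonempty (S ≃* PSp m F) → P S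

variable {r : ℕ} {P : ∀ (S : Type u) [Group S], Prop}

section Linear

variable {F : Type} [Field F] [Finite F] [CharP F r]

theorem cfl_sl (hP : LB r P) (n : ℕ) : CF P (Matrix.SpecialLinearGroup (Fin n) F) := by
  rcases Nat.lt_or_ge n 2 with hn | hn
  · apply CF.of_solvable
    have : Subsingleton (Fin n) := by
      have : n = 0 ∨ n = 1 := by omega
      rcases this with rfl | rfl <;> infer_instance
    have : Subsingleton (Matrix.SpecialLinearGroup (Fin n) F) := inferInstance
    infer_instance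
  · by_cases hs : IsSimpleGroup (Matrix.ProjectiveSpecialLinearGroup (Fin n) F)
    · exact CF.of_central (Z := center _) le_rfl (CF.of_simple (hP.psl F n hs))
    · rcases Nat.eq_or_lt_of_le hn with rfl | hn
      · by_cases h : 4 ≤ Nat.card F
        · exact absurd (Matrix.ProjectiveSpecialLinearGroup.rank_two_simple h) hs
        · exact CF.of_solvable (isSolvable_sl_two h)
      · exact absurd (LieClassical.SLGen.psl_isSimpleGroup (by rw [Fintype.card_fin]; exact hn)) hs

theorem cfl_gl (hP : LB r P) (n : ℕ) : CF P (GL (Fin n) F) := by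
  refine CF.of_hom_comm (Matrix.GeneralLinearGroup.det (n := Fin n) (R := F)) ?_
  rw [← range_toGL n]
  exact (cfl_sl hP n).congr (MonoidHom.ofInjective (Matrix.SpecialLinearGroup.toGL_injective))

end Linear

section Unitary

variable {F : Type} [Field F] [Fintype F] [CharP F r] {q : ℕ}

theorem cfl_su (hP : LB r P) (hF : Fintype.card F = q ^ 2) (n : ℕ) : CF P ↥(SU n F q) := by
  rcases Nat.lt_or_ge n 2 with hn | hn
  · apply CF.of_solvable
    have : Subsingleton (Fin n) := by
      have : n = 0 ∨ n = 1 := by omega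
      rcases this with rfl | rfl <;> infer_instance
    have : Subsingleton (Matrix.SpecialLinearGroup (Fin n) F) := inferInstance
    have : Subsingleton ↥(SU n F q) := inferInstance
    infer_instance
  · rcases Nat.eq_or_lt_of_le hn with rfl | hn
    · obtain ⟨_, _, _, _, θ, -⟩ := Phan.exists_model hF
      exact (cfl_sl (F := Phan.fixedField hF) hP 2).congr θ
    · by_cases h : n = 3 ∧ q = 2
      · obtain ⟨rfl, rfl⟩ := h
        have h1 := (S0282.result (F := F) hF).2
        exact CF.of_central (Z := center _) le_rfl (CF.of_solvable h1)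
      · have h1 := S0283.result hF n hn h
        exact CF.of_central (Z := center _) le_rfl (CF.of_simple (hP.psu F n q hF hn h1))

theorem cfl_gu (hP : LB r P) (hF : Fintype.card F = q ^ 2) (n : ℕ) : CF P ↥(GU n F q) := by
  refine CF.of_hom_comm ((Matrix.GeneralLinearGroup.det (n := Fin n) (R := F)).comp (GU n F q).subtype) ?_
  have hinj : Function.Injective (suToGU n F q) := by
    intro a b hab
    apply Subtype.ext
    apply Subtype.ext
    rw [← coe_suToGU, ← coe_suToGU, hab]
  have hr : (suToGU n F q).range =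
      ((Matrix.GeneralLinearGroup.det (n := Fin n) (R := F)).comp (GU n F q).subtype).ker := by
    ext A
    constructor
    · rintro ⟨g, rfl⟩
      rw [MonoidHom.mem_ker]
      apply Units.ext
      change Matrix.det ((suToGU n F q g : GL (Fin n) F) : Matrix (Fin n) (Fin n) F) = 1
      rw [coe_suToGU]
      exact g.1.2
    · intro h
      rw [MonoidHom.mem_ker] at h
      have h1 : Matrix.det ((A : GL (Fin n) F) : Matrix (Fin n) (Fin n) F) = 1 := congrArg Units.val h
      refine ⟨⟨⟨((A : GL (Fin n) F) : Matrix (Fin n) (Fin n) F), h1⟩, ?_⟩, ?_⟩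
      · exact A.2
      · apply Subtype.ext
        apply Units.ext
        rw [coe_suToGU]
  rw [← hr]
  exact (cfl_su hP hF n).congr (MonoidHom.ofInjective hinj)

end Unitary

section Orth

variable {F V : Type} [Field F] [AddCommGroup V] [Module F V] {Q : QuadraticForm F V}

theorem cfl_three (hP : LB r P) [Finite F] [CharP F r] (h2 : (2 : F) ≠ 0) :
    CF P ↥(Cfsg.isometryGroup F (Cfsg.quadFormOdd 1 F)) := by
  have hF : ∃ a : F, a ≠ 0 ∧ a ≠ 1 := by
    refine ⟨-1, neg_ne_zero.2 one_ne_zero, fun h => h2 ?_⟩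
    linear_combination -h
  exact CF.of_commutator_le le_rfl ((cfl_sl (F := F) hP 2).of_surjective _
    (LieClassical.OrthThreeOmega.psiOmega_surjective hF))

theorem cfl_four_plus (hP : LB r P) [Finite F] [CharP F r] :
    CF P ↥(Cfsg.isometryGroup F (Cfsg.quadFormPlus 2 F)) := by
  obtain ⟨ε⟩ := LieClassical.OrthFourCommon.exists_isometryGroup_equiv (LieClassical.OrthFourPlus.coord F)
    (Cfsg.quadFormPlus 2 F) (LieClassical.OrthFourPlus.dt F) LieClassical.OrthFourPlus.coord_det
  refine CF.congr ?_ ε.symm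
  refine CF.of_commutator_le LieClassical.OrthFourPlus.commutator_le ?_
  exact ((cfl_sl (F := F) hP 2).prod (cfl_sl (F := F) hP 2)).of_surjective
    (LieClassical.OrthFourPlus.phi.rangeRestrict) (MonoidHom.rangeRestrict_surjective _)

theorem cfl_four_minus (hP : LB r P) [Finite F] [CharP F r] {a b : F} (hab : GenOrth.Aniso a b) :
    CF P ↥(Cfsg.isometryGroup F (Cfsg.quadFormMinus 1 F a b)) := by
  have : Fact (∀ r : F, r ^ 2 ≠ -b + a * r) := ⟨fun r hr => by
    have := (hab (-r) 1 (by linear_combination hr)).2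
    exact one_ne_zero this⟩
  have hfin : Finite (LieClassical.OrthFourMinus.E F (-b) a) := Finite.of_equiv _ (QuadraticAlgebra.equivProd (-b) a).symm
  have hchar : CharP (LieClassical.OrthFourMinus.E F (-b) a) r := by
    have : Algebra F (LieClassical.OrthFourMinus.E F (-b) a) := inferInstance
    exact charP_of_injective_algebraMap (algebraMap F (LieClassical.OrthFourMinus.E F (-b) a)).injective r
  obtain ⟨ε⟩ := LieClassical.OrthFourCommon.exists_isometryGroup_equiv (LieClassical.OrthFourMinus.coord F (-b) a)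
    (Cfsg.quadFormMinus 1 F a b) (LieClassical.OrthFourMinus.Q (-b) a) (LieClassical.OrthFourMinus.Q_coord a b)
  refine CF.congr ?_ ε.symm
  refine CF.of_commutator_le (LieClassical.OrthFourMinus.commutator_le'
    (LieClassical.OrthFourMinus.exists_eq LieClassical.OrthFourMinus.norm_surjective)) ?_
  exact (cfl_sl (F := LieClassical.OrthFourMinus.E F (-b) a) hP 2).of_surjective
    (LieClassical.OrthFourMinus.phi.rangeRestrict) (MonoidHom.rangeRestrict_surjective _)

theorem cfl_big (hr : r.Prime) (hr2 : r ≠ 2) (hP : LB r P) [Finite F] [CharP F r] [Module.Finite F V]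
    (hQ : Nondeg Q) (hd : 5 ≤ Module.finrank F V) (hd6 : Module.finrank F V ≤ 6) : CF P ↥(O Q) := by
  have hG := LieClassical.OrthFinite.good_of_finite hQ hd
  have hle : E Q ≤ O Q := E_le_O
  have hs : IsSimpleGroup (E Q ⧸ center ↥(E Q)) := good_isSimpleGroup hG
  refine CF.of_commutator_le (N := (E Q).subgroupOf (O Q)) ?_ ?_
  · rw [commutator_def, Subgroup.commutator_le]
    intro x _ y _
    rw [Subgroup.mem_subgroupOf]
    exact hG.commutator_le_E (Subgroup.commutator_mem_commutator x.2 y.2)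
  refine (CF.of_central (Z := center ↥(E Q)) le_rfl (CF.of_simple fun S _ hS => ?_)).congr
      (Subgroup.subgroupOfEquivOfLe hle).symm
  obtain ⟨e⟩ := hS
  have := Fintype.ofFinite F
  have h1 := card_ge_of_odd (F := F) hr hr2
  rcases GenOrth.normal_form (Module.finrank F V) hQ rfl with ⟨k, hk, hS⟩ | ⟨k, hk, hS⟩ | ⟨k, hk, a, b, hab, hS⟩
  · obtain ⟨f⟩ := nonempty_E_equiv hG hS
    obtain rfl : k = 2 := by omega
    obtain ⟨f'⟩ := S0301.result (F := F) h1.1
    exact hP.psp F 2 le_rfl ((e.symm.trans ((e.trans f).trans f')).symm.isSimpleGroup) S ⟨(e.trans f).trans f'⟩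
  · obtain ⟨f⟩ := nonempty_E_equiv hG hS
    obtain rfl : k = 3 := by omega
    obtain ⟨f'⟩ := S0302.result (F := F)
    exact hP.psl F 4 ((e.symm.trans ((e.trans f).trans f')).symm.isSimpleGroup) S ⟨(e.trans f).trans f'⟩
  · obtain ⟨g⟩ := nonempty_E_equiv hG hS
    obtain rfl : k = 2 := by omega
    have : Fact r.Prime := ⟨hr⟩
    obtain ⟨f, hf⟩ : ∃ f : ℕ, Fintype.card F = r ^ f := by
      obtain ⟨n, -, hn⟩ := FiniteField.card F r
      exact ⟨n, hn⟩
    have hf0 : f ≠ 0 := by
      rintro rfl
      rw [pow_zero] at hf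
      omega
    have hfin : Finite (GaloisField r (2 * f)) := inferInstance
    have hft : Fintype (GaloisField r (2 * f)) := Fintype.ofFinite _
    have hK : Fintype.card (GaloisField r (2 * f)) = (Fintype.card F) ^ 2 := by
      rw [← Nat.card_eq_fintype_card, GaloisField.card r (2 * f) (by omega), hf, ← pow_mul, mul_comm]
    obtain ⟨f'⟩ := S0303.result (F := F) (K := GaloisField r (2 * f)) rfl hK a b hab
    have hch : CharP (GaloisField r (2 * f)) r := inferInstance
    exact hP.psu (GaloisField r (2 * f)) 4 (Fintype.card F) hK (by omega)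
      ((e.symm.trans ((e.trans g).trans f')).symm.isSimpleGroup) S ⟨(e.trans g).trans f'⟩

/-- The orthogonal groups of nondegenerate quadratic forms of dimension at most six. -/
theorem cfl_O (hr : r.Prime) (hr2 : r ≠ 2) (hP : LB r P) [Finite F] [CharP F r] [Module.Finite F V]
    (hQ : Nondeg Q) (hd6 : Module.finrank F V ≤ 6) : CF P ↥(O Q) := by
  by_cases h5 : 5 ≤ Module.finrank F V
  · exact cfl_big hr hr2 hP hQ h5 hd6
  have hN := GenOrth.normal_form (Module.finrank F V) hQ rfl
  have hlt : Module.finrank F V < 5 := by omega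
  clear hd6
  generalize hn : Module.finrank F V = n at *
  have h01 : n ≤ 1 → Group.IsSolvable ↥(O Q) := by
    intro hn1
    apply Group.isSolvable_of_comm
    intro g h
    apply Subtype.ext
    apply LinearEquiv.ext
    intro v
    change g.1 (h.1 v) = h.1 (g.1 v)
    rcases Nat.eq_zero_or_pos n with h0 | h0
    · have : Subsingleton V := Module.finrank_zero_iff.1 (hn.trans h0)
      exact Subsingleton.elim _ _
    · obtain ⟨w, hw0, hw⟩ := finrank_eq_one_iff'.1 (show Module.finrank F V = 1 by omega)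
      obtain ⟨s, hs⟩ := hw (g.1 w)
      obtain ⟨t, ht⟩ := hw (h.1 w)
      obtain ⟨c, rfl⟩ := hw v
      rw [map_smul, map_smul, map_smul, map_smul, ← hs, ← ht, map_smul, map_smul, ← hs, ← ht, smul_comm s t]
  interval_cases n
  · exact CF.of_solvable (h01 (by norm_num))
  · exact CF.of_solvable (h01 (by norm_num))
  · exact CF.of_solvable (BpCl.Plane.isSolvable hQ hn)
  · rcases hN with ⟨k, hk, hs⟩ | ⟨k, hk, -⟩ | ⟨k, hk, -⟩
    · have hk1 : k = 1 := by omega
      subst hk1
      obtain ⟨e⟩ := BpCl.nonempty_of_sim hs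
      exact (cfl_three hP (BpCl.two_ne_zero_of_odd hQ hs)).congr e
    · omega
    · omega
  · rcases hN with ⟨k, hk, -⟩ | ⟨k, hk, hs⟩ | ⟨k, hk, a, b, hab, hs⟩
    · omega
    · have hk1 : k = 2 := by omega
      subst hk1
      obtain ⟨e⟩ := BpCl.nonempty_of_sim hs
      exact (cfl_four_plus hP).congr e
    · have hk1 : k = 1 := by omega
      subst hk1
      obtain ⟨e⟩ := BpCl.nonempty_of_sim hs
      exact (cfl_four_minus hP hab).congr e

end Orth

section Matrix

open Matrix
open Cfsg.Agent.ClassicalGeometry.InvolutiveNorm Cfsg.Agent.ClassicalGeometry.HermOrthonormal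

variable {D : Type} [Field D] {d : ℕ} [NeZero d] (s : RInv (Matrix (Fin d) (Fin d) D))

/-- involutions of the second kind -/
theorem cfl_unitary_second [Fintype D] [CharP D r] (hB : LB r P)
    (h2 : ∃ z ∈ Subring.center (Matrix (Fin d) (Fin d) D), s z ≠ z) : CF P ↥s.U := by
  obtain ⟨σ, hσ2, hs⟩ := exists_sigma s
  have hσ : σ ≠ RingHom.id D := by
    rintro rfl
    obtain ⟨z, hz, hz2⟩ := h2
    obtain ⟨c, rfl⟩ := exists_scalar hz
    exact hz2 (hs c)
  obtain ⟨M, hPs, hM⟩ := exists_herm s hσ hσ2 hs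
  obtain ⟨Q, hQ⟩ := exists_sqrt hσ hσ2 M hPs
  obtain ⟨q, hq, hσq⟩ := exists_card_sq hσ hσ2
  rw [Nat.card_eq_fintype_card] at hq
  have key : s.U.map (MulAut.conj Q⁻¹).toMonoidHom = GU d D q := by
    have hQ1 : (Q : Matrix (Fin d) (Fin d) D) * ((Q⁻¹ : GL (Fin d) D) : Matrix (Fin d) (Fin d) D) = 1 := Q.mul_inv
    have hQ2 : ((Q⁻¹ : GL (Fin d) D) : Matrix (Fin d) (Fin d) D) * (Q : Matrix (Fin d) (Fin d) D) = 1 := Q.inv_mul
    have hP1 : (M : Matrix (Fin d) (Fin d) D) * ((M⁻¹ : GL (Fin d) D) : Matrix (Fin d) (Fin d) D) = 1 := M.mul_inv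
    have hP2 : ((M⁻¹ : GL (Fin d) D) : Matrix (Fin d) (Fin d) D) * (M : Matrix (Fin d) (Fin d) D) = 1 := M.inv_mul
    have hst : cst σ (Q : Matrix (Fin d) (Fin d) D) * cst σ ((Q⁻¹ : GL (Fin d) D) : Matrix (Fin d) (Fin d) D) = 1 := by
      rw [← cst_mul, hQ2, cst_one]
    -- the main computation
    have hmain : ∀ w : Matrix (Fin d) (Fin d) D,
        ((Q : Matrix (Fin d) (Fin d) D) * w * ((Q⁻¹ : GL (Fin d) D) : Matrix (Fin d) (Fin d) D)) *
          s ((Q : Matrix (Fin d) (Fin d) D) * w * ((Q⁻¹ : GL (Fin d) D) : Matrix (Fin d) (Fin d) D)) =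
        (Q : Matrix (Fin d) (Fin d) D) * (w * cst σ w) * (cst σ (Q : Matrix (Fin d) (Fin d) D) *
          ((M⁻¹ : GL (Fin d) D) : Matrix (Fin d) (Fin d) D)) := by
      intro w
      rw [hM, hQ, cst_mul, cst_mul]
      calc (Q : Matrix (Fin d) (Fin d) D) * w * ((Q⁻¹ : GL (Fin d) D) : Matrix (Fin d) (Fin d) D) *
            ((Q : Matrix (Fin d) (Fin d) D) * cst σ (Q : Matrix (Fin d) (Fin d) D) *
            (cst σ ((Q⁻¹ : GL (Fin d) D) : Matrix (Fin d) (Fin d) D) * (cst σ w * cst σ (Q : Matrix (Fin d) (Fin d) D)))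
            * ((M⁻¹ : GL (Fin d) D) : Matrix (Fin d) (Fin d) D))
          = (Q : Matrix (Fin d) (Fin d) D) * w * (((Q⁻¹ : GL (Fin d) D) : Matrix (Fin d) (Fin d) D) *
            (Q : Matrix (Fin d) (Fin d) D)) * (cst σ (Q : Matrix (Fin d) (Fin d) D) *
            cst σ ((Q⁻¹ : GL (Fin d) D) : Matrix (Fin d) (Fin d) D)) * cst σ w *
            (cst σ (Q : Matrix (Fin d) (Fin d) D) * ((M⁻¹ : GL (Fin d) D) : Matrix (Fin d) (Fin d) D)) := by
            simp only [mul_assoc]
        _ = _ := by rw [hQ2, hst, mul_one, mul_one]; simp only [mul_assoc]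
    ext w
    rw [mem_GU_iff_cst hq hσq]
    constructor
    · rintro ⟨u, hu, rfl⟩
      have hu1 : (u : Matrix (Fin d) (Fin d) D) * s (u : Matrix (Fin d) (Fin d) D) = 1 := hu
      have hw : ((MulAut.conj Q⁻¹).toMonoidHom u : GL (Fin d) D) = Q⁻¹ * u * Q := by
        change Q⁻¹ * u * (Q⁻¹)⁻¹ = _
        rw [inv_inv]
      rw [hw]
      set w := Q⁻¹ * u * Q with hwdef
      have hu2 : (u : Matrix (Fin d) (Fin d) D) = (Q : Matrix (Fin d) (Fin d) D) * (w : Matrix (Fin d) (Fin d) D) *
          ((Q⁻¹ : GL (Fin d) D) : Matrix (Fin d) (Fin d) D) := by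
        rw [← Units.val_mul, ← Units.val_mul]
        congr 1
        rw [hwdef]; group
      rw [hu2, hmain] at hu1
      calc (w : Matrix (Fin d) (Fin d) D) * cst σ (w : Matrix (Fin d) (Fin d) D)
          = (((Q⁻¹ : GL (Fin d) D) : Matrix (Fin d) (Fin d) D) * (Q : Matrix (Fin d) (Fin d) D)) *
            ((w : Matrix (Fin d) (Fin d) D) * cst σ (w : Matrix (Fin d) (Fin d) D)) *
            (cst σ (Q : Matrix (Fin d) (Fin d) D) * (((M⁻¹ : GL (Fin d) D) : Matrix (Fin d) (Fin d) D) *
            (M : Matrix (Fin d) (Fin d) D)) * cst σ ((Q⁻¹ : GL (Fin d) D) : Matrix (Fin d) (Fin d) D)) := by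
            rw [hQ2, hP2, mul_one, hst, one_mul, mul_one]
        _ = ((Q⁻¹ : GL (Fin d) D) : Matrix (Fin d) (Fin d) D) * ((Q : Matrix (Fin d) (Fin d) D) *
            ((w : Matrix (Fin d) (Fin d) D) * cst σ (w : Matrix (Fin d) (Fin d) D)) *
            (cst σ (Q : Matrix (Fin d) (Fin d) D) * ((M⁻¹ : GL (Fin d) D) : Matrix (Fin d) (Fin d) D))) *
            ((M : Matrix (Fin d) (Fin d) D) * cst σ ((Q⁻¹ : GL (Fin d) D) : Matrix (Fin d) (Fin d) D)) := by
            simp only [mul_assoc]
        _ = 1 := by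
          rw [hu1, mul_one, hQ]
          calc ((Q⁻¹ : GL (Fin d) D) : Matrix (Fin d) (Fin d) D) * ((Q : Matrix (Fin d) (Fin d) D) *
                cst σ (Q : Matrix (Fin d) (Fin d) D) * cst σ ((Q⁻¹ : GL (Fin d) D) : Matrix (Fin d) (Fin d) D))
              = (((Q⁻¹ : GL (Fin d) D) : Matrix (Fin d) (Fin d) D) * (Q : Matrix (Fin d) (Fin d) D)) *
                (cst σ (Q : Matrix (Fin d) (Fin d) D) *
                cst σ ((Q⁻¹ : GL (Fin d) D) : Matrix (Fin d) (Fin d) D)) := by simp only [mul_assoc]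
            _ = 1 := by rw [hQ2, hst, one_mul]
    · intro hw
      refine ⟨Q * w * Q⁻¹, ?_, ?_⟩
      · change ((Q * w * Q⁻¹ : GL (Fin d) D) : Matrix (Fin d) (Fin d) D) *
          s ((Q * w * Q⁻¹ : GL (Fin d) D) : Matrix (Fin d) (Fin d) D) = 1
        rw [Units.val_mul, Units.val_mul, hmain, hw, mul_one, ← mul_assoc, ← hQ, hP1]
      · change Q⁻¹ * (Q * w * Q⁻¹) * (Q⁻¹)⁻¹ = w
        group
  have e : ↥s.U ≃* ↥(GU d D q) :=
    (s.U.equivMapOfInjective _ (MulAut.conj Q⁻¹).injective).trans (MulEquiv.subgroupCongr key)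
  exact (cfl_gu hB hq d).congr e.symm

end Matrix

section Semisimple

theorem cfl_second' {D : Type} [DivisionRing D] [Finite D] [CharP D r] {d : ℕ} [NeZero d]
    (hB : LB r P) (s : RInv (Matrix (Fin d) (Fin d) D))
    (h2 : ∃ z ∈ Subring.center (Matrix (Fin d) (Fin d) D), s z ≠ z) : CF P ↥s.U := by
  let _ : Field D := littleWedderburn D
  have := Fintype.ofFinite D
  exact cfl_unitary_second s hB h2

theorem cfl_units_matrix {D : Type} [DivisionRing D] [Finite D] [CharP D r] (hB : LB r P) (d : ℕ) :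
    CF P (Matrix (Fin d) (Fin d) D)ˣ := by
  let _ : Field D := littleWedderburn D
  exact cfl_gl (F := D) hB d

/-- **The unitary group of a finite semisimple ring with involution `s`**, odd characteristic, if there is a central
unit `z` with `s z = -z`. -/
theorem cfl_unitary (hr : r.Prime) (hr2 : r ≠ 2) (hB : LB r P) {E : Type} [Ring E] [Finite E]
    [IsSemisimpleRing E] [CharP E r] (s : RInv E) {z : E} (hz : z ∈ Subring.center E) (hzu : IsUnit z)
    (hsz : s z = -z) : CF P ↥s.U := by
  classical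
  obtain ⟨n, D, d, hD, hd, ⟨e⟩⟩ := IsSemisimpleRing.exists_ringEquiv_pi_matrix_divisionRing E
  have hfin : Finite (∀ i, Matrix (Fin (d i)) (Fin (d i)) (D i)) := Finite.of_equiv E e.toEquiv
  have hfin2 : ∀ i, Finite (Matrix (Fin (d i)) (Fin (d i)) (D i)) := fun i =>
    Finite.of_surjective (fun x : ∀ i, Matrix (Fin (d i)) (Fin (d i)) (D i) => x i)
      (fun a => ⟨Pi.single i a, by simp⟩)
  have hne : ∀ i, Nonempty (Fin (d i)) := fun i => ⟨0⟩
  have hfin3 : ∀ i, Finite (D i) := fun i =>
    Finite.of_injective (fun c : D i => Matrix.scalar (Fin (d i)) c) (fun a b h => Matrix.scalar_inj.mp h)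
  have key : CF P ↥(s.congr e).U := by
    refine cf_unitary_pi (s.congr e) (fun i => ?_) fun i hi => ?_
    · have := charP_factor hr e i
      exact cfl_units_matrix hB (d i)
    · have hc := charP_factor hr e i
      refine cfl_second' hB _ ⟨e z i, ?_, ?_⟩
      · rw [Subring.mem_center_iff]
        intro x
        have h1 := Subring.mem_center_iff.1 hz (e.symm (Pi.single i x))
        have h2 := congrFun (congrArg e h1) i
        rw [map_mul, map_mul, RingEquiv.apply_symm_apply, Pi.mul_apply, Pi.mul_apply, Pi.single_eq_same] at h2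
        exact h2
      · have h1 : ((s.congr e).factor i hi) (e z i) = -(e z i) := by
          have h2 := apply_of_fix (s.congr e) hi (e z)
          have h3 : (s.congr e) (e z) = -(e z) := by
            change e (s (e.symm (e z))) = _
            rw [e.symm_apply_apply, hsz, map_neg]
          rw [h3] at h2
          exact h2.symm
        rw [h1]
        intro h2
        have h4 : (2 : Matrix (Fin (d i)) (Fin (d i)) (D i)) * (e z i) = 0 := by
          rw [two_mul]
          nth_rewrite 1 [← h2]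
          exact neg_add_cancel _
        have h5 : IsUnit (e z i) := by
          have h6 : IsUnit (e z) := hzu.map e
          exact h6.map (Pi.evalRingHom (fun i => Matrix (Fin (d i)) (Fin (d i)) (D i)) i)
        have h7 : (2 : Matrix (Fin (d i)) (Fin (d i)) (D i)) = 0 := by
          rwa [h5.mul_left_eq_zero] at h4
        have h8 := (isUnit_two (A := Matrix (Fin (d i)) (Fin (d i)) (D i)) (r := r) hr hr2)
        rw [h7] at h8
        exact not_isUnit_zero h8
  exact key.congr (s.congrU e).symm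

end Semisimple

end Cfsg.Agent.H112.OI
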