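import Cfsg.Agent.H112.OI.LCF
import Cfsg.Agent.H73.OrthSplit

/-!
# The centralizer of an isometry `T` with `T² = -1`: composition factors (helper112, for S3325)
-/

set_option autoImplicit false
set_option linter.unusedSectionVars false

namespace Cfsg.Agent.H112.OI

open Subgroup Cfsg Cfsg.Agent.BpLin Cfsg.Agent.BpCl QuadraticMap Cfsg.Agent.H340
open Cfsg.Agent.LieClassical.OrthCore

universe u

variable {P : ∀ (S : Type u) [Group S], Prop} {r : ℕ}

theorem cfl_fixUnitary {A : Type} [Ring A] (hr : r.Prime) (hr2 : r ≠ 2) (hB : LB r P) [Finite A]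
    [IsSemisimpleRing A] [CharP A r]
    (τ : A ≃+* A) (hτ : ∀ a, τ (τ a) = a) (s : RInv A) (hs : ∀ a, τ (s a) = s (τ a)) {z : A} (hz : τ z = z)
    (hzc : ∀ a, τ a = a → a * z = z * a) (hzz : z * z = -1) (hsz : s z = -z) :
    CF P ↥(s.U ⊓ fixU τ) := by
  have h1 : IsSemisimpleRing ↥(fixRing τ) := isSemisimpleRing_fixed τ hτ (isUnit_two hr hr2)
  have h2 : CharP ↥(fixRing τ) r := charP_subring _
  have h3 := cfl_unitary hr hr2 hB (fixInv τ s hs) (z := ⟨z, hz⟩)
    (Subring.mem_center_iff.2 fun a => Subtype.ext (hzc a a.2))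
    ⟨⟨⟨z, hz⟩, -⟨z, hz⟩, Subtype.ext (by
      change z * -z = 1
      rw [mul_neg, hzz, neg_neg]), Subtype.ext (by
      change -z * z = 1
      rw [neg_mul, hzz, neg_neg])⟩, rfl⟩ (Subtype.ext hsz)
  have h4 : ((fixInv τ s hs).U.map ((fixU τ).subtype.comp (fixUEquiv τ).toMonoidHom)) = s.U ⊓ fixU τ := by
    ext u
    constructor
    · rintro ⟨v, hv, rfl⟩
      have h5 : (v : ↥(fixRing τ)) * (fixInv τ s hs) v = 1 := hv
      exact ⟨congrArg Subtype.val h5, (fixUEquiv τ v).2⟩
    · rintro ⟨hu, hu'⟩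
      refine ⟨(fixUEquiv τ).symm ⟨u, hu'⟩, ?_, ?_⟩
      · exact Subtype.ext hu
      · change ((fixUEquiv τ ((fixUEquiv τ).symm ⟨u, hu'⟩) : ↥(fixU τ)) : Aˣ) = u
        rw [MulEquiv.apply_symm_apply]
  have hinj : Function.Injective ((fixU τ).subtype.comp (fixUEquiv τ).toMonoidHom) :=
    (fixU τ).subtype_injective.comp (fixUEquiv τ).injective
  exact h3.congr (((fixInv τ s hs).U.equivMapOfInjective _ hinj).trans (MulEquiv.subgroupCongr h4))

section Main

variable {F V : Type} [Field F] [Finite F] [CharP F r] [AddCommGroup V] [Module F V] [Module.Finite F V]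
  {Q : QuadraticForm F V}

/-- **The centralizer in `O(Q)` of an isometry with square `-1`.** -/
theorem cfl_CO (hr : r.Prime) (hr2 : r ≠ 2) (hP : LB r P) [Nontrivial V] (hQ : Nondeg Q) {T : V ≃ₗ[F] V}
    (hT : T ∈ O Q) (hTT : ∀ v, T (T v) = -v) : CF P ↥(H73.Orth.CO Q T) := by
  have h2 : (2 : F) ≠ 0 := by
    intro h
    have h3 : r ∣ 2 := (CharP.cast_eq_zero_iff F r 2).1 (by exact_mod_cast h)
    exact hr2 ((Nat.prime_dvd_prime_iff_eq hr Nat.prime_two).1 h3)
  have hV : Finite V := Module.finite_of_finite F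
  have hE : Finite (Module.End F V) := Finite.of_injective (fun T : Module.End F V => (T : V → V)) DFunLike.coe_injective
  have hss : IsSemisimpleRing (Module.End F V) := IsSemisimpleRing.moduleEnd F V
  have hch : CharP (Module.End F V) r :=
    charP_of_injective_algebraMap (algebraMap F (Module.End F V)).injective r
  let B : LinearMap.BilinForm F V := polarBilin Q
  have hBa : ∀ u v, B u v = polar Q u v := fun _ _ => rfl
  have hnd : ∀ u, (∀ v, B u v = 0) → u = 0 := hQ
  have hB : ∀ u v, B u v = 1 * B v u := fun u v => by rw [one_mul, hBa, hBa, polar_comm]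
  have hg : SemiIso (fun u v => B u v) (RingEquiv.refl F) 1 (T.toEquiv : Equiv.Perm V) :=
    { add := fun u v => map_add T u v
      smul := fun a v => map_smul T a v
      form := fun u v => by
        change polar Q (T u) (T v) = 1 * polar Q u v
        rw [one_mul]
        unfold polar
        rw [← map_add, mem_O.1 hT, mem_O.1 hT, mem_O.1 hT] }
  let s := adjI hnd (one_mul (1 : F)) hB
  let τ := semiEnd hg.toSemi
  have hga : ∀ v, (T.toEquiv : Equiv.Perm V) ((T.toEquiv : Equiv.Perm V) v) = (-1 : F) • v := fun v => by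
    rw [neg_one_smul]
    exact hTT v
  have hinv : ∀ v, (T.toEquiv : Equiv.Perm V)⁻¹ v = -(T v) := fun v => by
    rw [Equiv.Perm.inv_eq_iff_eq]
    change v = T (-(T v))
    rw [map_neg, hTT, neg_neg]
  have hτ : ∀ (a : Module.End F V) (v : V), τ a v = T (a (-(T v))) := fun a v => by
    change (T.toEquiv : Equiv.Perm V) (a ((T.toEquiv : Equiv.Perm V)⁻¹ v)) = _
    rw [hinv]
    rfl
  let z : Module.End F V := T.toLinearMap
  have h1 : CF P ↥(s.U ⊓ fixU τ) := by
    refine cfl_fixUnitary hr hr2 hP τ (semiEnd_semiEnd hg.toSemi (neg_ne_zero.2 one_ne_zero) hga) s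
      (semiEnd_adjI hnd (one_mul (1 : F)) hB hg) (z := z) ?_ ?_ ?_ ?_
    · apply LinearMap.ext
      intro v
      rw [hτ]
      change T (T (-(T v))) = T v
      rw [hTT, neg_neg]
    · intro a ha
      apply LinearMap.ext
      intro v
      have h3 := LinearMap.congr_fun ha (T v)
      rw [hτ, hTT, neg_neg] at h3
      exact h3.symm
    · apply LinearMap.ext
      intro v
      exact hTT v
    · refine Free.adj_unique hnd fun u v => ?_
      change polar Q (-(T u)) v = polar Q u (T v)
      have h3 : polar Q (T u) (T (T v)) = polar Q u (T v) := hg.form u (T v) |>.trans (one_mul _)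
      rw [hTT, polar_neg_right] at h3
      rw [polar_neg_left, h3]
  let e : LinearMap.GeneralLinearGroup F V ≃* (V ≃ₗ[F] V) := LinearMap.GeneralLinearGroup.generalLinearEquiv F V
  have h3 : (s.U ⊓ fixU τ).map e.toMonoidHom = H73.Orth.CO Q T := by
    ext h
    rw [Subgroup.mem_map_equiv, H73.Orth.mem_CO]
    have he : ∀ v, ((e.symm h : LinearMap.GeneralLinearGroup F V) : Module.End F V) v = h v := fun _ => rfl
    constructor
    · rintro ⟨h4, h5⟩
      refine ⟨mem_O.2 fun v => ?_, fun v => ?_⟩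
      · have h6 : polar Q (h v) (h v) = polar Q v v := (mem_adjU hnd (one_mul (1 : F)) hB _).1 h4 v v
        rw [polar_self, polar_self] at h6
        exact mul_left_cancel₀ h2 (by simpa using h6)
      · have h6 := LinearMap.congr_fun (mem_fixU.1 h5) (T v)
        rw [hτ, hTT, neg_neg, he, he] at h6
        exact h6.symm
    · rintro ⟨h4, h5⟩
      refine ⟨(mem_adjU hnd (one_mul (1 : F)) hB _).2 fun u v => ?_, mem_fixU.2 ?_⟩
      · change polar Q (h u) (h v) = polar Q u v
        unfold polar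
        rw [← map_add, mem_O.1 h4, mem_O.1 h4, mem_O.1 h4]
      · apply LinearMap.ext
        intro v
        rw [hτ, he, he, ← h5, map_neg, hTT, neg_neg]
  rw [← h3]
  exact h1.congr ((s.U ⊓ fixU τ).equivMapOfInjective e.toMonoidHom e.injective)

end Main

end Cfsg.Agent.H112.OI
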