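import Mathlib
import Cfsg.Prelude.Def_Classification2
import Cfsg.Agent.H65.CN.Grp

/-!
# Lifting a component of a centralizer in `O' / Z(O')` (helper112, for S3325)

* `lift_component`;
* `component_prod` : the components of a direct product of two groups.
-/

set_option autoImplicit false
set_option linter.unusedSectionVars false

open Cfsg Subgroup

namespace Cfsg.Agent.H112.OI

open Cfsg.Agent.SignalizersComponents.Components
open scoped commutatorElement

section

variable {C D : Type*} [Group C] [Group D]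

/-- components lift along central extensions -/
theorem component_lift_central (f : C →* D) (hf : Function.Surjective f) (hk : f.ker ≤ center C) {K : Subgroup D}
    (hK : IsComponent K) : ∃ L : Subgroup C, IsComponent L ∧ L.map f = K := by
  set P := K.comap f with hP
  set L : Subgroup C := ⁅P, P⁆ with hL
  have hLm : L.map f = K := by
    rw [hL, Subgroup.map_commutator, hP, Subgroup.map_comap_eq_self_of_surjective hf,
      component_commutator_self hK]
  have hLP : L ≤ P := Subgroup.commutator_le_self P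
  have hPL : ∀ x ∈ P, ∃ l ∈ L, ∃ z ∈ center C, x = l * z := by
    intro x hx
    have h1 : f x ∈ L.map f := by rw [hLm]; exact hx
    obtain ⟨l, hl, hlx⟩ := h1
    refine ⟨l, hl, l⁻¹ * x, hk ?_, by group⟩
    rw [MonoidHom.mem_ker, map_mul, map_inv, hlx, inv_mul_cancel]
  have hperf : ⁅L, L⁆ = L := by
    apply le_antisymm (Subgroup.commutator_le_self L)
    conv_lhs => rw [hL]
    rw [commutator_le]
    intro x hx y hy
    obtain ⟨l, hl, z, hz, rfl⟩ := hPL x hx
    obtain ⟨m, hm, w, hw, rfl⟩ := hPL y hy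
    have hz' := mem_center_iff.1 hz
    have hw' := mem_center_iff.1 hw
    have h1 : ⁅l * z, m * w⁆ = ⁅l, m⁆ := by
      rw [commutatorElement_def, commutatorElement_def]
      have h2 : l * z * (m * w) * (l * z)⁻¹ * (m * w)⁻¹ = l * (z * m) * w * (z⁻¹ * l⁻¹) * (w⁻¹ * m⁻¹) := by group
      rw [h2, ← hz' m]
      have h3 : l * (m * z) * w * (z⁻¹ * l⁻¹) * (w⁻¹ * m⁻¹) = l * m * (z * w) * z⁻¹ * (l⁻¹ * w⁻¹) * m⁻¹ := by group
      have h4 : l⁻¹ * w⁻¹ = w⁻¹ * l⁻¹ := mem_center_iff.1 ((center C).inv_mem hw) l⁻¹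
      rw [h3, hw' z, h4]
      group
    rw [h1]
    exact commutator_mem_commutator hl hm
  have hsub : L.IsSubnormal := by
    have h1 : P.IsSubnormal := hK.1.comap f
    refine Subgroup.IsSubnormal.step L P hLP h1 ?_
    have h2 : L.subgroupOf P = commutator P := by
      apply Subgroup.map_injective P.subtype_injective
      rw [subgroupOf_map_subtype, inf_eq_left.2 hLP, _root_.commutator_def, Subgroup.map_commutator,
        ← MonoidHom.range_eq_map, P.range_subtype]
    rw [h2]
    infer_instance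
  refine ⟨L, ⟨hsub, ?_⟩, hLm⟩
  let g : ↥L →* ↥K := (f.comp L.subtype).codRestrict K (fun l => by
    have h1 : f l ∈ L.map f := mem_map_of_mem f l.2
    rwa [hLm] at h1)
  have hg : Function.Surjective g := by
    intro k
    have h1 : (k : D) ∈ L.map f := by rw [hLm]; exact k.2
    obtain ⟨l, hl, hlk⟩ := h1
    exact ⟨⟨l, hl⟩, Subtype.ext hlk⟩
  refine BpLin.quasisimple_of_surjective_central hg ?_ (Subgroup.isPerfect_iff.mpr hperf) hK.2
  intro x hx
  have h1 : (x : C) ∈ center C := by
    apply hk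
    rw [MonoidHom.mem_ker]
    exact congrArg Subtype.val (MonoidHom.mem_ker.1 hx)
  rw [mem_center_iff]
  intro y
  exact Subtype.ext (mem_center_iff.1 h1 y)

/-- the components of a direct product -/
theorem component_prod {L : Subgroup (C × D)} (hL : IsComponent L) :
    (∃ K : Subgroup C, IsComponent K ∧ L = K.prod ⊥) ∨ (∃ K : Subgroup D, IsComponent K ∧ L = Subgroup.prod ⊥ K) := by
  have n1 : (Subgroup.prod (⊤ : Subgroup C) (⊥ : Subgroup D)).Normal := Subgroup.prod_normal _ _
  have n2 : (Subgroup.prod (⊥ : Subgroup C) (⊤ : Subgroup D)).Normal := Subgroup.prod_normal _ _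
  rcases component_le_or_commutator_eq_bot hL n1.isSubnormal with h1 | h1
  · left
    have hs : ∀ x ∈ L, x.2 = 1 := fun x hx => (Subgroup.mem_prod.1 (h1 hx)).2
    have hLe : L = (L.map (MonoidHom.fst C D)).prod ⊥ := by
      ext ⟨x, y⟩
      rw [Subgroup.mem_prod, Subgroup.mem_bot]
      constructor
      · intro h
        exact ⟨⟨_, h, rfl⟩, hs _ h⟩
      · rintro ⟨⟨⟨x', y'⟩, h, hx⟩, hy⟩
        have hx' : x' = x := hx
        have hy' : y = 1 := hy
        have h3 : y' = 1 := hs _ h
        rw [hy', ← hx']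
        rw [h3] at h
        exact h
    refine ⟨L.map (MonoidHom.fst C D), ⟨hL.1.map Prod.fst_surjective, ?_⟩, hLe⟩
    have hinj : Function.Injective ((MonoidHom.fst C D).subgroupMap L) := by
      intro x y hxy
      apply Subtype.ext
      apply Prod.ext
      · exact congrArg Subtype.val hxy
      · rw [hs _ x.2, hs _ y.2]
    exact isQuasisimple_of_mulEquiv
      (MulEquiv.ofBijective _ ⟨hinj, (MonoidHom.fst C D).subgroupMap_surjective L⟩) hL.2
  rcases component_le_or_commutator_eq_bot hL n2.isSubnormal with h2 | h2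
  · right
    have hs : ∀ x ∈ L, x.1 = 1 := fun x hx => (Subgroup.mem_prod.1 (h2 hx)).1
    have hLe : L = Subgroup.prod ⊥ (L.map (MonoidHom.snd C D)) := by
      ext ⟨x, y⟩
      rw [Subgroup.mem_prod, Subgroup.mem_bot]
      constructor
      · intro h
        exact ⟨hs _ h, ⟨_, h, rfl⟩⟩
      · rintro ⟨hx, ⟨⟨x', y'⟩, h, hy⟩⟩
        have hx' : x = 1 := hx
        have hy' : y' = y := hy
        have h3 : x' = 1 := hs _ h
        rw [hx', ← hy']
        rw [h3] at h
        exact h
    refine ⟨L.map (MonoidHom.snd C D), ⟨hL.1.map Prod.snd_surjective, ?_⟩, hLe⟩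
    have hinj : Function.Injective ((MonoidHom.snd C D).subgroupMap L) := by
      intro x y hxy
      apply Subtype.ext
      apply Prod.ext
      · rw [hs _ x.2, hs _ y.2]
      · exact congrArg Subtype.val hxy
    exact isQuasisimple_of_mulEquiv
      (MulEquiv.ofBijective _ ⟨hinj, (MonoidHom.snd C D).subgroupMap_surjective L⟩) hL.2
  -- otherwise `L` is central
  exfalso
  refine quasisimple_not_isMulCommutative hL.2 ⟨⟨fun x y => Subtype.ext ?_⟩⟩
  rw [commutator_eq_bot_iff_le_centralizer] at h1 h2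
  have e1 := mem_centralizer_iff.1 (h1 x.2) (y.1.1, 1) (Subgroup.mem_prod.2 ⟨mem_top _, mem_bot.2 rfl⟩)
  have e2 := mem_centralizer_iff.1 (h2 x.2) (1, y.1.2) (Subgroup.mem_prod.2 ⟨mem_bot.2 rfl, mem_top _⟩)
  apply Prod.ext
  · exact (congrArg Prod.fst e1).symm
  · exact (congrArg Prod.snd e2).symm

end

/-- **Lifting a component.** `α` is the automorphism of `O' / Z(O')` induced by conjugation with `T`. -/
theorem lift_component {O C : Type} [Group O] [Group C] (T : O) (j : C →* O) (hj : Function.Injective j)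
    (hjr : j.range = centralizer {T}) (F : Subgroup (commutator O ⧸ center (commutator O)))
    (hF : ∀ x : commutator O, (QuotientGroup.mk x : commutator O ⧸ center (commutator O)) ∈ F ↔
      (QuotientGroup.mk (MulAut.conjNormal T x) : commutator O ⧸ center (commutator O)) = QuotientGroup.mk x)
    (M : Subgroup (commutator O ⧸ center (commutator O))) (hMF : M ≤ F) (hM : IsComponent (M.subgroupOf F)) :
    ∃ (L : Subgroup C) (hL : ∀ c : ↥L, j c ∈ commutator O) (f : ↥L →* ↥M), IsComponent L ∧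
      Function.Surjective f ∧ ∀ c : ↥L, ((f c : ↥M) : commutator O ⧸ center (commutator O)) =
        QuotientGroup.mk ⟨j c, hL c⟩ := by
  let Om := commutator O
  let π : Om →* Om ⧸ center Om := QuotientGroup.mk' (center Om)
  have hπ : Function.Surjective π := QuotientGroup.mk'_surjective _
  let D : Subgroup Om := F.comap π
  let f : ↥D →* ↥F := π.subgroupComap F
  have hf : Function.Surjective f := MonoidHom.subgroupComap_surjective_of_surjective π F hπ
  have hfk : f.ker ≤ center ↥D := by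
    intro x hx
    have h1 : (x : Om) ∈ center Om := by
      have h2 : π (x : Om) = 1 := congrArg Subtype.val (MonoidHom.mem_ker.1 hx)
      exact (QuotientGroup.eq_one_iff _).1 h2
    rw [mem_center_iff]
    intro y
    exact Subtype.ext (mem_center_iff.1 h1 y)
  obtain ⟨L₁, hL₁, hL₁m⟩ := component_lift_central f hf hfk hM
  -- `L₁` commutes with `T`
  have hcen : ∀ x ∈ D, MulAut.conjNormal T x * x⁻¹ ∈ center Om := by
    intro x hx
    have h1 := (hF x).1 hx
    rw [← QuotientGroup.eq_one_iff, QuotientGroup.mk_mul, QuotientGroup.mk_inv, h1, mul_inv_cancel]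
  let θ : ↥D →* ↥(center Om) :=
    { toFun := fun m => ⟨MulAut.conjNormal T (m : Om) * (m : Om)⁻¹, hcen m m.2⟩
      map_one' := Subtype.ext (by
        change MulAut.conjNormal T ((1 : ↥D) : Om) * ((1 : ↥D) : Om)⁻¹ = 1
        rw [OneMemClass.coe_one, map_one, inv_one, mul_one])
      map_mul' := fun a b => Subtype.ext (by
        change MulAut.conjNormal T ((a * b : ↥D) : Om) * ((a * b : ↥D) : Om)⁻¹ =
          MulAut.conjNormal T (a : Om) * (a : Om)⁻¹ * (MulAut.conjNormal T (b : Om) * (b : Om)⁻¹)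
        rw [Subgroup.coe_mul, map_mul, mul_inv_rev]
        have h1 := mem_center_iff.1 (hcen b b.2) (a : Om)⁻¹
        calc MulAut.conjNormal T (a : Om) * MulAut.conjNormal T (b : Om) * ((b : Om)⁻¹ * (a : Om)⁻¹)
            = MulAut.conjNormal T (a : Om) * ((MulAut.conjNormal T (b : Om) * (b : Om)⁻¹) * (a : Om)⁻¹) := by group
          _ = MulAut.conjNormal T (a : Om) * ((a : Om)⁻¹ * (MulAut.conjNormal T (b : Om) * (b : Om)⁻¹)) := by rw [h1]
          _ = _ := by group) }
  have hT : ∀ x ∈ L₁, T * ((x : Om) : O) = ((x : Om) : O) * T := by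
    intro x hx
    have h1 : θ x = 1 := H65.CN.map_eq_one (f := θ)
      (Group.isSolvable_of_comm fun a b => Subtype.ext (mem_center_iff.1 b.2 a))
      (component_commutator_self hL₁) hx
    have h2 : MulAut.conjNormal T (x : Om) * (x : Om)⁻¹ = 1 := congrArg Subtype.val h1
    have h3 : MulAut.conjNormal T (x : Om) = (x : Om) := mul_inv_eq_one.1 h2
    have h4 : T * ((x : Om) : O) * T⁻¹ = ((x : Om) : O) := by
      have := congrArg (fun y : Om => (y : O)) h3
      rwa [MulAut.conjNormal_apply] at this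
    rwa [mul_inv_eq_iff_eq_mul] at h4
  have hrange : ∀ x ∈ L₁, ∃ c : C, j c = ((x : Om) : O) := by
    intro x hx
    have h1 : ((x : Om) : O) ∈ j.range := by
      rw [hjr, mem_centralizer_singleton_iff]
      exact (hT x hx).symm
    exact h1
  -- the preimage in `C`
  let N : Subgroup C := Om.comap j
  have hN : N.Normal := inferInstance
  have hND : ∀ n : ↥N, (⟨j n, n.2⟩ : Om) ∈ D := by
    intro n
    have h1 : MulAut.conjNormal T (⟨j n, n.2⟩ : Om) = ⟨j n, n.2⟩ := by
      apply Subtype.ext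
      rw [MulAut.conjNormal_apply]
      have h2 : j (n : C) ∈ centralizer ({T} : Set O) := by rw [← hjr]; exact ⟨_, rfl⟩
      rw [mem_centralizer_singleton_iff] at h2
      rw [mul_inv_eq_iff_eq_mul]
      exact h2.symm
    change (QuotientGroup.mk (⟨j n, n.2⟩ : Om) : Om ⧸ center Om) ∈ F
    rw [hF, h1]
  let ι : ↥N →* ↥D :=
    { toFun := fun n => ⟨⟨j n, n.2⟩, hND n⟩
      map_one' := Subtype.ext (Subtype.ext (map_one j))
      map_mul' := fun a b => Subtype.ext (Subtype.ext (map_mul j (a : C) (b : C))) }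
  have hι : Function.Injective ι := by
    intro a b hab
    apply Subtype.ext
    apply hj
    exact congrArg (fun x : ↥D => ((x : Om) : O)) hab
  have hιr : L₁ ≤ ι.range := by
    intro x hx
    obtain ⟨c, hc⟩ := hrange x hx
    exact ⟨⟨c, by
      rw [mem_comap, hc]
      exact x.1.2⟩, Subtype.ext (Subtype.ext hc)⟩
  have hmap : (L₁.comap ι).map ι = L₁ := by
    rw [Subgroup.map_comap_eq, inf_eq_right.2 hιr]
  let L : Subgroup C := (L₁.comap ι).map N.subtype
  have hmemL : ∀ c : ↥L, ∃ hc : j c ∈ Om, ∃ hd : (⟨j c, hc⟩ : Om) ∈ D, (⟨⟨j c, hc⟩, hd⟩ : ↥D) ∈ L₁ := by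
    rintro ⟨c, n, hn, rfl⟩
    exact ⟨n.2, hND n, hn⟩
  have hLO : ∀ c : ↥L, j c ∈ commutator O := fun c => (hmemL c).1
  have hLM : ∀ c : ↥L, (QuotientGroup.mk (⟨j c, hLO c⟩ : Om) : Om ⧸ center Om) ∈ M := by
    intro c
    obtain ⟨hc, hd, h1⟩ := hmemL c
    have h2 : f ⟨⟨j c, hc⟩, hd⟩ ∈ M.subgroupOf F := by
      rw [← hL₁m]
      exact mem_map_of_mem f h1
    exact h2
  have e1 : IsQuasisimple ↥(L₁.comap ι) := by
    refine isQuasisimple_of_mulEquiv ?_ hL₁.2
    exact (((L₁.comap ι).equivMapOfInjective ι hι).trans (MulEquiv.subgroupCongr hmap)).symm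
  refine ⟨L, hLO, { toFun := fun c => ⟨_, hLM c⟩, map_one' := ?_, map_mul' := ?_ }, ⟨?_, ?_⟩, ?_, ?_⟩
  · apply Subtype.ext
    change (QuotientGroup.mk (⟨j ((1 : ↥L) : C), _⟩ : Om) : Om ⧸ center Om) = 1
    have h1 : (⟨j ((1 : ↥L) : C), hLO 1⟩ : Om) = 1 := Subtype.ext (map_one j)
    rw [h1]
    rfl
  · intro a b
    apply Subtype.ext
    change (QuotientGroup.mk (⟨j ((a * b : ↥L) : C), _⟩ : Om) : Om ⧸ center Om) =
      QuotientGroup.mk (⟨j (a : C), _⟩ : Om) * QuotientGroup.mk (⟨j (b : C), _⟩ : Om)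
    rw [← QuotientGroup.mk_mul]
    congr 1
    exact Subtype.ext (map_mul j (a : C) (b : C))
  · exact (hL₁.1.comap ι).trans' hN.isSubnormal
  · exact isQuasisimple_of_mulEquiv ((L₁.comap ι).equivMapOfInjective N.subtype N.subtype_injective) e1
  · rintro ⟨y, hy⟩
    have h1 : (⟨y, hMF hy⟩ : ↥F) ∈ L₁.map f := by
      rw [hL₁m]
      exact hy
    obtain ⟨x, hx, hxy⟩ := h1
    obtain ⟨c, hc⟩ := hrange x hx
    have hcN : c ∈ N := by
      rw [mem_comap, hc]
      exact x.1.2
    have hιc : ι ⟨c, hcN⟩ = x := Subtype.ext (Subtype.ext hc)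
    have hcL : c ∈ L := ⟨⟨c, hcN⟩, by
      change ι ⟨c, hcN⟩ ∈ L₁
      rw [hιc]
      exact hx, rfl⟩
    refine ⟨⟨c, hcL⟩, Subtype.ext ?_⟩
    change (QuotientGroup.mk (⟨j c, _⟩ : Om) : Om ⧸ center Om) = y
    have h3 : (⟨j c, hLO ⟨c, hcL⟩⟩ : Om) = (x : Om) := Subtype.ext hc
    rw [h3]
    exact congrArg Subtype.val hxy
  · intro c
    rfl

end Cfsg.Agent.H112.OI
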