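import Cfsg.Agent.H323.OI.Pieces
import Cfsg.Agent.H112.OI.LNeg
import Cfsg.Agent.H112.OI.Lift
import Cfsg.Agent.H112.OI.Coord
import Cfsg.Agent.H73.OrthFam

/-!
# S3325, piece 10b: the centralizer of a linear isometry `T`, `T² = ±1` (helper112)

`pSplit : PName1 → PName2 → PSplit`.
-/

set_option autoImplicit false
set_option linter.unusedSectionVars false

namespace Cfsg.Agent.H112.OI

open Cfsg Subgroup Matrix QuadraticMap
open Cfsg.Agent.H183 Cfsg.Agent.H323.OI Cfsg.Agent.H340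
open Cfsg.Agent.LieClassical.OrthCore
open Cfsg.Agent.SignalizersComponents.Components

/-! ### Preliminaries -/

section Pre

/-- the image of a homomorphism with central kernel maps onto the central quotient -/
theorem exists_surj {A B : Type*} [Group A] [Group B] (φ : A →* B) (h : φ.ker ≤ center A) :
    ∃ g : ↥φ.range →* A ⧸ center A, Function.Surjective g := by
  have hk : φ.rangeRestrict.ker ≤ (QuotientGroup.mk' (center A)).ker := by
    rw [MonoidHom.ker_rangeRestrict, QuotientGroup.ker_mk']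
    exact h
  refine ⟨φ.rangeRestrict.liftOfSurjective φ.rangeRestrict_surjective ⟨QuotientGroup.mk' (center A), hk⟩, ?_⟩
  intro y
  obtain ⟨a, rfl⟩ := QuotientGroup.mk'_surjective _ y
  exact ⟨φ.rangeRestrict a, MonoidHom.liftOfRightInverse_comp_apply _ _ _ _ _⟩

theorem noncomm_of_quasisimple {H : Type*} [Group H] (h : IsQuasisimple H) :
    ∃ a b : H ⧸ center H, a * b ≠ b * a := by
  by_contra hno
  push Not at hno
  have hp : commutator H = ⊤ := h.1.commutator_eq_top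
  have h1 : commutator (H ⧸ center H) = ⊥ := by
    rw [commutator_def, Subgroup.commutator_eq_bot_iff_le_centralizer]
    intro a _ b _
    exact hno b a
  have h2 : commutator (H ⧸ center H) = ⊤ := by
    have h3 := congrArg (Subgroup.map (QuotientGroup.mk' (center H))) hp
    rw [commutator_def, Subgroup.map_commutator, Subgroup.map_top_of_surjective _ (QuotientGroup.mk'_surjective _)] at h3
    exact h3
  rw [h1] at h2
  have := h.2
  obtain ⟨x, hx⟩ := exists_ne (1 : H ⧸ center H)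
  exact hx (by rw [← Subgroup.mem_bot, h2]; exact Subgroup.mem_top _)

variable {F : Type} [Field F] [Fintype F]

theorem quasisimple_Omega {ι : Type} [Fintype ι] [DecidableEq ι] {Q : QuadraticForm F (ι → F)} (hQ : Nondeg Q)
    (h5 : 5 ≤ Fintype.card ι) : IsQuasisimple ↥(Omega F ⇑Q) := by
  have hG := LieClassical.OrthFinite.good_of_finite hQ (by rwa [Module.finrank_fintype_fun_eq_card])
  exact isQuasisimple_of_mulEquiv
    ((LieClassical.OrthFinite.omegaEquiv Q).trans (MulEquiv.subgroupCongr hG.commutator_eq_E)).symm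
    (H73.Orth.isQuasisimple_E hG)

/-- the component of an orthogonal group -/
theorem component_eq {ι : Type} [Fintype ι] [DecidableEq ι] {Q : QuadraticForm F (ι → F)} (hQ : Nondeg Q)
    (h5 : 5 ≤ Fintype.card ι) {X : Subgroup ↥(isometryGroup F ⇑Q)} (hX : IsComponent X) : X = Omega F ⇑Q := by
  by_contra hne
  have hO : IsComponent (Omega F ⇑Q) :=
    ⟨(inferInstance : (commutator ↥(isometryGroup F ⇑Q)).Normal).isSubnormal, quasisimple_Omega hQ h5⟩
  have h1 := component_commutator_eq_bot_of_ne hX hO hne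
  have h2 : X ≤ Omega F ⇑Q := by
    rw [← component_commutator_self hX]
    exact commutator_mono le_top le_top
  have h3 : ⁅X, X⁆ ≤ ⁅X, Omega F ⇑Q⁆ := commutator_mono le_rfl h2
  rw [h1, component_commutator_self hX, le_bot_iff] at h3
  exact component_ne_bot hX h3

theorem two_ne_zero_of_odd (h : Odd (Fintype.card F)) : (2 : F) ≠ 0 := by
  intro h2
  have h3 : ringChar F = 2 := CharP.ringChar_of_prime_eq_zero Nat.prime_two (by exact_mod_cast h2)
  have h4 := FiniteField.even_card_iff_char_two.1 h3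
  rw [Nat.odd_iff] at h
  omega

theorem nondeg_dqF {n : ℕ} {c : Fin n → F} (h2 : (2 : F) ≠ 0) (hc : ∀ i, c i ≠ 0) : Nondeg (dqF c) := by
  intro v hv
  funext i
  have h1 := hv (Pi.single i 1)
  have h3 : polar (⇑(dqF c)) v (Pi.single i 1) = 2 * c i * v i := by
    unfold polar
    rw [coe_dqF]
    simp only [dq]
    rw [← Finset.sum_sub_distrib, ← Finset.sum_sub_distrib, Finset.sum_eq_single i]
    · simp only [Pi.add_apply, Pi.single_eq_same]
      ring
    · intro j _ hj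
      simp only [Pi.add_apply, Pi.single_eq_of_ne hj]
      ring
    · intro h
      exact absurd (Finset.mem_univ i) h
  rw [h3] at h1
  exact (mul_eq_zero.1 h1).resolve_left (mul_ne_zero h2 (hc i))

theorem Sp.five {n : ℕ} {c : Fin n → F} (hc : Sp c) : 5 ≤ n := by
  have h1 := hc.odd
  have h3 : Fintype.card F % 4 = 1 ∨ Fintype.card F % 4 = 3 := by
    rw [Nat.odd_iff] at h1
    omega
  rcases h3 with h3 | h3
  · rcases hc.h6.1 h3 with h | h <;> omega
  · rcases hc.h6.2 h3 with h | h | h <;> omega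

theorem quasisimple_Om {n : ℕ} {c : Fin n → F} (hc : Sp c) : IsQuasisimple (Om c) := by
  have h1 : IsQuasisimple ↥(Omega F ⇑(dqF c)) := quasisimple_Omega
    (nondeg_dqF (two_ne_zero_of_odd hc.odd) hc.ne) (by rw [Fintype.card_fin]; exact Sp.five hc)
  rwa [coe_dqF] at h1

/-- the simple groups `PSL`, `PSU`, `PSp` in odd characteristic are not `PΩ(U)` -/
theorem lb_of_name (hN : PName1) {n : ℕ} {c : Fin n → F} (hc : Sp c) {r : ℕ} (hr : r.Prime) (hr2 : r ≠ 2) :
    LB.{0} r (fun S _ => ¬ Nonempty (S ≃* POmega F (dq c))) where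
  psl K _ _ _ m hs S _ := by
    rintro ⟨e⟩ hne
    have := Fintype.ofFinite K
    have hn : 2 ≤ m := by
      by_contra hn
      have : Subsingleton (Fin m) := by
        have : m = 0 ∨ m = 1 := by omega
        rcases this with rfl | rfl <;> infer_instance
      have : Subsingleton (Matrix.SpecialLinearGroup (Fin m) K) := inferInstance
      have : Subsingleton (Matrix.ProjectiveSpecialLinearGroup (Fin m) K) :=
        (QuotientGroup.mk'_surjective _).subsingleton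
      exact not_nontrivial _ hs.toNontrivial
    refine (hN c hc S hne).2.1 ⟨K, inferInstance, inferInstance, m, hn, ?_, ⟨e⟩⟩
    rintro rfl
    by_contra h4
    exact not_simple_sl_two_three (F := K) (by rwa [Nat.card_eq_fintype_card]) hs
  psu K _ _ _ m q hF hn hs S _ := by
    rintro ⟨e⟩ hne
    have h1 := card_ge_of_odd (F := K) hr hr2
    refine (hN c hc S hne).2.2.1 ⟨K, inferInstance, inferInstance, m, q, hF, hn, ?_, ⟨e⟩⟩
    rintro ⟨-, rfl⟩
    rw [hF] at h1
    exact absurd h1.1 (by decide)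
  psp K _ _ _ m hm hs S _ := by
    rintro ⟨e⟩ hne
    have := Fintype.ofFinite K
    exact (hN c hc S hne).2.2.2 ⟨K, inferInstance, inferInstance, m, ⟨e⟩⟩

/-- a group with `CF` has no subnormal subgroup which maps onto `PΩ(U)` -/
theorem cf_absurd {n : ℕ} {c : Fin n → F} (hc : Sp c) {A : Type*} [Group A]
    (h : CF.{0} (fun S _ => ¬ Nonempty (S ≃* POmega F (dq c))) A) {X : Subgroup A} (hX : X.IsSubnormal)
    (f : ↥X →* POmega F (dq c)) (hf : Function.Surjective f) : False := by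
  have hq := quasisimple_Om hc
  have := hq.2
  exact h X hX (POmega F (dq c)) (noncomm_of_quasisimple hq) f hf ⟨MulEquiv.refl _⟩

theorem exists_char {F' : Type} [Field F'] [Fintype F'] (h2 : (2 : F') ≠ 0) :
    ∃ r : ℕ, r.Prime ∧ r ≠ 2 ∧ CharP F' r := by
  obtain ⟨r, hr⟩ := CharP.exists F'
  have hrp : r.Prime := CharP.char_is_prime F' r
  refine ⟨r, hrp, ?_, hr⟩
  rintro rfl
  exact h2 (by exact_mod_cast CharP.cast_eq_zero F' 2)

/-- **No small dimensions.** -/
theorem not_small (hN : PName1) {n : ℕ} {c : Fin n → F} (hc : Sp c) {F' : Type} [Field F'] [Fintype F']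
    (h2 : (2 : F') ≠ 0) {k : ℕ} {Q₁ : QuadraticForm F' (Fin k → F')} (hQ₁ : Nondeg Q₁)
    {X : Subgroup ↥(isometryGroup F' ⇑Q₁)} (hX : X.IsSubnormal) (f : ↥X →* POmega F (dq c))
    (hf : Function.Surjective f) : 7 ≤ k := by
  by_contra hk
  obtain ⟨r, hr, hr2, hch⟩ := exists_char h2
  have h1 : CF.{0} (fun S _ => ¬ Nonempty (S ≃* POmega F (dq c))) ↥(O Q₁) :=
    cfl_O hr hr2 (lb_of_name hN hc hr hr2) hQ₁ (by
      rw [Module.finrank_fin_fun]
      omega)
  exact cf_absurd hc (h1.congr (LieClassical.OrthFinite.isometryEquiv Q₁).symm) hX f hf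

end Pre

/-! ### The case `T² = -1` -/

section Neg

variable {F : Type} [Field F] [Fintype F]

theorem neg_case (hN : PName1) {n : ℕ} {c : Fin n → F} (hc : Sp c) {F' : Type} [Field F'] [Fintype F']
    (h2 : (2 : F') ≠ 0) {ι : Type} [Fintype ι] [DecidableEq ι] [Nonempty ι] {Q : QuadraticForm F' (ι → F')}
    (hQ : Nondeg Q) {T : ↥(isometryGroup F' ⇑Q)} (hT : mx (T * T) = -1)
    {X : Subgroup ↥(centralizer ({T} : Set ↥(isometryGroup F' ⇑Q)))} (hX : X.IsSubnormal)
    (f : ↥X →* POmega F (dq c)) (hf : Function.Surjective f) : False := by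
  obtain ⟨r, hr, hr2, hch⟩ := exists_char h2
  let e := LieClassical.OrthFinite.isometryEquiv Q
  let t : (ι → F') ≃ₗ[F'] (ι → F') := (e T : ↥(O Q))
  have ht : ∀ v, t v = mx T *ᵥ v := fun v => rfl
  have htt : ∀ v, t (t v) = -v := by
    intro v
    rw [ht, ht, mulVec_mulVec]
    have h1 : mx T * mx T = -1 := hT
    rw [h1, neg_mulVec, one_mulVec]
  have hnt : Nontrivial (ι → F') := inferInstance
  have h1 : CF.{0} (fun S _ => ¬ Nonempty (S ≃* POmega F (dq c))) ↥(H73.Orth.CO Q t) :=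
    cfl_CO hr hr2 (lb_of_name hN hc hr hr2) hQ (e T).2 htt
  -- the centralizer
  have hm : ∀ g : ↥(centralizer ({T} : Set ↥(isometryGroup F' ⇑Q))), ((e g.1 : ↥(O Q)) : (ι → F') ≃ₗ[F'] (ι → F')) ∈
      H73.Orth.CO Q t := by
    intro g
    rw [H73.Orth.mem_CO]
    refine ⟨(e g.1).2, fun v => ?_⟩
    have h3 := mem_centralizer_singleton_iff.1 g.2
    have h4 := congrArg (fun x : ↥(O Q) => (x : (ι → F') ≃ₗ[F'] (ι → F')) v) (congrArg e h3)
    rw [map_mul, map_mul] at h4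
    exact h4
  let θ : ↥(centralizer ({T} : Set ↥(isometryGroup F' ⇑Q))) →* ↥(H73.Orth.CO Q t) :=
    { toFun := fun g => ⟨_, hm g⟩
      map_one' := Subtype.ext (congrArg (fun x : ↥(O Q) => (x : (ι → F') ≃ₗ[F'] (ι → F'))) (map_one e))
      map_mul' := fun a b => Subtype.ext
        (congrArg (fun x : ↥(O Q) => (x : (ι → F') ≃ₗ[F'] (ι → F'))) (map_mul e a.1 b.1)) }
  have hθ : Function.Bijective θ := by
    constructor
    · intro g h hgh
      apply Subtype.ext
      apply e.injective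
      apply Subtype.ext
      exact congrArg (fun x : ↥(H73.Orth.CO Q t) => (x : (ι → F') ≃ₗ[F'] (ι → F'))) hgh
    · rintro ⟨g, hg⟩
      rw [H73.Orth.mem_CO] at hg
      refine ⟨⟨e.symm ⟨g, hg.1⟩, ?_⟩, ?_⟩
      · rw [mem_centralizer_singleton_iff]
        apply e.injective
        rw [map_mul, map_mul, MulEquiv.apply_symm_apply]
        apply Subtype.ext
        apply LinearEquiv.ext
        intro v
        exact hg.2 v
      · apply Subtype.ext
        change ((e (e.symm ⟨g, hg.1⟩) : ↥(O Q)) : (ι → F') ≃ₗ[F'] (ι → F')) = g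
        rw [MulEquiv.apply_symm_apply]
  exact cf_absurd hc (h1.congr (MulEquiv.ofBijective θ hθ).symm) hX f hf

end Neg

/-! ### The assembly -/

section Main

variable {F : Type} [Field F] [Fintype F]

/-- the last step -/
theorem finish (hN : PName1) {n : ℕ} {c : Fin n → F} (hc : Sp c) {F' : Type} [Field F'] [Fintype F']
    (h2 : (2 : F') ≠ 0) {ι : Type} [Fintype ι] [DecidableEq ι] {Q : QuadraticForm F' (ι → F')}
    {T : ↥(isometryGroup F' ⇑Q)} {α : MulAut (POmega F' ⇑Q)} (hα1 : α ≠ 1)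
    (hα : ∀ x : ↥(Omega F' ⇑Q), α (QuotientGroup.mk x) = QuotientGroup.mk (cj T x))
    {φ : Om c →* POmega F' ⇑Q} (hφ : φ.ker ≤ center (Om c))
    {k l : ℕ} {Q₁ : QuadraticForm F' (Fin k → F')} {Q₂ : QuadraticForm F' (Fin l → F')}
    {L : (Fin k ⊕ Fin l → F') ≃ₗ[F'] (ι → F')} {e : F'} (he : e = 1 ∨ e = -1) (n₁ : Nondeg Q₁) (n₂ : Nondeg Q₂)
    (hL : ∀ v, Q (L v) = sumFun ⇑Q₁ ⇑Q₂ v)
    (a₁ : ∀ v : Fin k → F', mx T *ᵥ L (Sum.elim v 0) = e • L (Sum.elim v 0))
    (a₂ : ∀ v : Fin l → F', mx T *ᵥ L (Sum.elim 0 v) = -e • L (Sum.elim 0 v))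
    (j₁ : ↥(isometryGroup F' ⇑Q₁) →* ↥(isometryGroup F' ⇑Q))
    (hj₁ : ∀ x, Rel L.toAddEquiv (blk ⇑Q₁ ⇑Q₂ (x, 1)) (j₁ x))
    {K : Subgroup ↥(isometryGroup F' ⇑Q₁)} (hK : IsComponent K) (hKO : ∀ x : ↥K, j₁ x ∈ Omega F' ⇑Q)
    (f : ↥K →* ↥φ.range) (hf : Function.Surjective f)
    (hfm : ∀ x : ↥K, ((f x : ↥φ.range) : POmega F' ⇑Q) = QuotientGroup.mk ⟨j₁ x, hKO x⟩) :
    ∃ (k l : ℕ) (Q₁ : QuadraticForm F' (Fin k → F')) (Q₂ : QuadraticForm F' (Fin l → F'))
    (L : (Fin k ⊕ Fin l → F') ≃ₗ[F'] (ι → F')) (e : F'), (e = 1 ∨ e = -1) ∧ Nondeg Q₁ ∧ Nondeg Q₂ ∧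
    7 ≤ k ∧ 1 ≤ l ∧ (∀ v, Q (L v) = sumFun ⇑Q₁ ⇑Q₂ v) ∧
    (∀ v : Fin k → F', mx T *ᵥ L (Sum.elim v 0) = e • L (Sum.elim v 0)) ∧
    (∀ v : Fin l → F', mx T *ᵥ L (Sum.elim 0 v) = -e • L (Sum.elim 0 v)) ∧
    (∀ m : Om c, ∃ (x : ↥(Omega F' ⇑Q₁)) (y : ↥(Omega F' ⇑Q)),
      φ m = QuotientGroup.mk y ∧ Rel L.toAddEquiv (blk ⇑Q₁ ⇑Q₂ (x.1, 1)) y.1) ∧
    (∀ x : ↥(Omega F' ⇑Q₁), ∃ (m : Om c) (y : ↥(Omega F' ⇑Q)),
      φ m = QuotientGroup.mk y ∧ Rel L.toAddEquiv (blk ⇑Q₁ ⇑Q₂ (x.1, 1)) y.1) := by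
  obtain ⟨g, hg⟩ := exists_surj φ hφ
  have hk : 7 ≤ k := not_small hN hc h2 n₁ hK.1 (g.comp f) (hg.comp hf)
  have hKe : K = Omega F' ⇑Q₁ := component_eq n₁ (by rw [Fintype.card_fin]; omega) hK
  subst hKe
  refine ⟨k, l, Q₁, Q₂, L, e, he, n₁, n₂, hk, ?_, hL, a₁, a₂, fun m => ?_, fun x => ?_⟩
  · by_contra hl
    obtain rfl : l = 0 := by omega
    apply hα1
    have hT : ∀ w, mx T *ᵥ w = e • w := by
      intro w
      obtain ⟨v, rfl⟩ := L.surjective w
      have h3 : v = Sum.elim (v ∘ Sum.inl) 0 := by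
        funext i
        rcases i with i | i
        · rfl
        · exact i.elim0
      rw [h3]
      exact a₁ _
    apply MulEquiv.ext
    intro y
    obtain ⟨x, rfl⟩ := QuotientGroup.mk_surjective y
    rw [hα]
    have h4 : cj T x = x := by
      apply Subtype.ext
      rw [MulAut.conjNormal_apply, mul_inv_eq_iff_eq_mul]
      apply iso_ext
      intro v
      change (mx T * mx x.1) *ᵥ v = (mx x.1 * mx T) *ᵥ v
      rw [← mulVec_mulVec, ← mulVec_mulVec, hT, hT, mulVec_smul]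
    rw [h4]
    rfl
  · obtain ⟨x, hx⟩ := hf ⟨φ m, ⟨m, rfl⟩⟩
    refine ⟨x, ⟨j₁ x, hKO x⟩, ?_, hj₁ x⟩
    rw [← hfm, hx]
  · obtain ⟨m, hm⟩ := (f x).2
    exact ⟨m, ⟨j₁ x, hKO x⟩, hm.trans (hfm x), hj₁ x⟩

variable {k l : ℕ}

/-- the swap -/
def swp (F : Type) [Field F] (k l : ℕ) : (Fin l ⊕ Fin k → F) ≃ₗ[F] (Fin k ⊕ Fin l → F) :=
  LinearEquiv.funCongrLeft F F (Equiv.sumComm (Fin k) (Fin l))

theorem swp_apply {F : Type} [Field F] (v : Fin l ⊕ Fin k → F) :
    swp F k l v = Sum.elim (v ∘ Sum.inr) (v ∘ Sum.inl) := by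
  funext i
  rcases i with i | i <;> rfl

/-- **Piece 10b of S3325.** -/
theorem pSplit : PName1 → PName2 → PSplit := by
  intro hN _ F _ _ n c hc F' _ _ h2 ι _ _ Q hQ hcard T hT α hα1 hα φ hφ hφf hcomp
  have hne : Nonempty ι := Fintype.card_pos_iff.1 (by omega)
  have hMF : φ.range ≤ fx α := by
    rintro _ ⟨m, rfl⟩
    exact hφf m
  have hF : ∀ x : commutator ↥(isometryGroup F' ⇑Q),
      (QuotientGroup.mk x : commutator ↥(isometryGroup F' ⇑Q) ⧸ center (commutator ↥(isometryGroup F' ⇑Q))) ∈ fx α ↔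
      (QuotientGroup.mk (MulAut.conjNormal T x) :
        commutator ↥(isometryGroup F' ⇑Q) ⧸ center (commutator ↥(isometryGroup F' ⇑Q))) = QuotientGroup.mk x := by
    intro x
    rw [mem_fx, hα]
  rcases hT with hT | hT
  · obtain ⟨k, l, Q₁, Q₂, L, n₁, n₂, hL, a₁, a₂⟩ := coords h2 hQ hT (e := 1) (Or.inl rfl)
    let j : ↥(isometryGroup F' ⇑Q₁) × ↥(isometryGroup F' ⇑Q₂) →* ↥(isometryGroup F' ⇑Q) :=
      (tr hL).toMonoidHom.comp (blk ⇑Q₁ ⇑Q₂)
    have hj : Function.Injective j := (tr hL).injective.comp blk_injective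
    obtain ⟨X, hX, f, hXc, hf, hfm⟩ := lift_component T j hj (centralizer_eq h2 (Or.inl rfl) hL a₁ a₂) (fx α) hF
      φ.range hMF hcomp
    rcases component_prod hXc with ⟨K, hK, rfl⟩ | ⟨K, hK, rfl⟩
    · have hm : ∀ x : ↥K, (x.1, (1 : ↥(isometryGroup F' ⇑Q₂))) ∈ K.prod ⊥ := fun x =>
        Subgroup.mem_prod.2 ⟨x.2, mem_bot.2 rfl⟩
      let i : ↥K →* ↥(K.prod (⊥ : Subgroup ↥(isometryGroup F' ⇑Q₂))) :=
        { toFun := fun x => ⟨_, hm x⟩
          map_one' := rfl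
          map_mul' := fun a b => Subtype.ext (Prod.ext rfl (one_mul _).symm) }
      have hi : Function.Surjective i := by
        rintro ⟨⟨x, y⟩, hxy⟩
        rw [Subgroup.mem_prod, mem_bot] at hxy
        obtain ⟨hx, rfl⟩ := hxy
        exact ⟨⟨x, hx⟩, rfl⟩
      exact finish hN hc h2 hα1 hα hφ (Or.inl rfl) n₁ n₂ hL a₁ a₂ (j.comp (MonoidHom.inl _ _))
        (fun x => tr_rel hL _) hK (fun x => hX (i x)) (f.comp i) (hf.comp hi) (fun x => hfm (i x))
    · have hm : ∀ x : ↥K, ((1 : ↥(isometryGroup F' ⇑Q₁)), x.1) ∈ Subgroup.prod ⊥ K := fun x =>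
        Subgroup.mem_prod.2 ⟨mem_bot.2 rfl, x.2⟩
      let i : ↥K →* ↥(Subgroup.prod (⊥ : Subgroup ↥(isometryGroup F' ⇑Q₁)) K) :=
        { toFun := fun x => ⟨_, hm x⟩
          map_one' := rfl
          map_mul' := fun a b => Subtype.ext (Prod.ext (one_mul _).symm rfl) }
      have hi : Function.Surjective i := by
        rintro ⟨⟨x, y⟩, hxy⟩
        rw [Subgroup.mem_prod, mem_bot] at hxy
        obtain ⟨rfl, hx⟩ := hxy
        exact ⟨⟨y, hx⟩, rfl⟩
      refine finish hN hc h2 hα1 hα hφ (L := (swp F' k l).trans L) (e := -1) (Or.inr rfl) n₂ n₁ ?_ ?_ ?_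
        (j.comp (MonoidHom.inr _ _)) ?_ hK (fun x => hX (i x)) (f.comp i) (hf.comp hi) (fun x => hfm (i x))
      · intro v
        change Q (L (swp F' k l v)) = _
        rw [hL, swp_apply]
        exact add_comm _ _
      · intro v
        change mx T *ᵥ L (swp F' k l (Sum.elim v 0)) = -1 • L (swp F' k l (Sum.elim v 0))
        rw [swp_apply, Sum.elim_comp_inl, Sum.elim_comp_inr]
        exact a₂ v
      · intro v
        change mx T *ᵥ L (swp F' k l (Sum.elim 0 v)) = -(-1 : F') • L (swp F' k l (Sum.elim 0 v))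
        rw [swp_apply, Sum.elim_comp_inl, Sum.elim_comp_inr, neg_neg]
        exact a₁ v
      · intro x v
        change mx (tr hL (blk ⇑Q₁ ⇑Q₂ (1, x))) *ᵥ L (swp F' k l v) = L (swp F' k l (mx (blk ⇑Q₂ ⇑Q₁ (x, 1)) *ᵥ v))
        rw [tr_mulVec, blk_mulVec, blk_mulVec, swp_apply, swp_apply, Sum.elim_comp_inl, Sum.elim_comp_inr,
          Sum.elim_comp_inl, Sum.elim_comp_inr]
  · exfalso
    obtain ⟨g, hg⟩ := exists_surj φ hφ
    obtain ⟨X, hX, f, hXc, hf, -⟩ := lift_component T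
      (centralizer ({T} : Set ↥(isometryGroup F' ⇑Q))).subtype (Subgroup.subtype_injective _)
      (Subgroup.range_subtype _) (fx α) hF φ.range hMF hcomp
    exact neg_case hN hc h2 hQ hT hXc.1 (g.comp f) (hg.comp hf)

end Main

end Cfsg.Agent.H112.OI
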